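import Mathlib
import Groth.Prelude.Def_TFOne
import Groth.Agent.Lib.Helper5.Dec.TF
import Groth.Agent.Lib.Helper5.Dec.Topo
import Groth.Agent.Lib.Lead.QC.SerreSupp
import Groth.Agent.Lib.Lead.QC.SuppSES
import Groth.Agent.Lib.Lead.Curve.Euler
import Groth.Agent.Lib.Lead.SC.SuppDim0

/-!
# Torsion-free quotients of a torsion-free rank one sheaf on a reduced curve: stalk tools.
-/

set_option autoImplicit false
set_option linter.style.haveILetI false
universe u
open CategoryTheory CategoryTheory.Limits AlgebraicGeometry TopologicalSpace Opposite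

namespace Groth.Agent.H5.TFQ

open Groth.Agent.LD Groth.Agent.LD.QC Groth.Agent.H5.Dec Groth.Agent.H5.Snap

attribute [-instance] Groth.Agent.LD.QC.stalkModule

variable {X : Scheme.{u}}

/-! ### the stalk function -/

theorem sf_germ {A B : X.Modules} (f : A ⟶ B) (x : X) (U : X.Opens) (hx : x ∈ U) (s : Γ(A, U)) :
    stalkFun f x (A.presheaf.germ U x hx s) = B.presheaf.germ U x hx (f.app U s) :=
  stalkMap_germ f x U hx s

theorem sf_comp {A B C : X.Modules} (f : A ⟶ B) (g : B ⟶ C) (x : X) (a : A.presheaf.stalk x) :
    stalkFun (f ≫ g) x a = stalkFun g x (stalkFun f x a) := by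
  obtain ⟨U, hx, s, rfl⟩ := TopCat.Presheaf.exists_germ_eq A.presheaf a
  rw [sf_germ, sf_germ, sf_germ]
  rfl

theorem sf_zero {A B : X.Modules} (x : X) (a : A.presheaf.stalk x) :
    stalkFun (0 : A ⟶ B) x a = 0 := by
  obtain ⟨U, hx, s, rfl⟩ := TopCat.Presheaf.exists_germ_eq A.presheaf a
  rw [sf_germ]
  exact map_zero (B.presheaf.germ U x hx).hom

theorem sf_map_zero {A B : X.Modules} (f : A ⟶ B) (x : X) : stalkFun f x 0 = 0 :=
  map_zero ((TopCat.Presheaf.stalkFunctor _ x).map f.mapPresheaf).hom

theorem sf_injective {A B : X.Modules} (f : A ⟶ B) [Mono f] (x : X) :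
    Function.Injective (stalkFun f x) := stalkMap_injective_of_mono f x

theorem sf_surjective {A B : X.Modules} (f : A ⟶ B) [Epi f] (x : X) :
    Function.Surjective (stalkFun f x) := stalkMap_surjective_of_epi f x

theorem sf_exact {S : ShortComplex X.Modules} (hS : S.ShortExact) (x : X)
    (b : S.X₂.presheaf.stalk x) (hb : stalkFun S.g x b = 0) :
    ∃ a : S.X₁.presheaf.stalk x, stalkFun S.f x a = b := stalk_exact hS x b hb

/-- a morphism which is zero is detected on stalks: if all stalk maps vanish then `f = 0`. -/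
theorem eq_zero_of_sf {A B : X.Modules} (f : A ⟶ B)
    (h : ∀ (x : X) (a : A.presheaf.stalk x), stalkFun f x a = 0) : f = 0 := by
  have hI : IsZero (Abelian.image f) := by
    rw [isZero_iff_subsingleton_stalks]
    intro x
    apply subsingleton_of_forall_eq_zero
    intro m
    obtain ⟨a, rfl⟩ := sf_surjective (Abelian.factorThruImage f) x m
    apply sf_injective (Abelian.image.ι f) x
    rw [← sf_comp, Abelian.image.fac, h, sf_map_zero]
  rw [← Abelian.image.fac f, hI.eq_of_tgt (Abelian.factorThruImage f) 0, zero_comp]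

/-! ### generic points -/

theorem isMax_of_mem_genericPoints {η : X} (hη : η ∈ genericPoints X) : IsMax η := by
  intro z hz
  have hz' : z ⤳ η := hz
  have hcl : closure ({η} : Set X) ⊆ closure ({z} : Set X) :=
    closure_minimal (Set.singleton_subset_iff.mpr (specializes_iff_mem_closure.mp hz'))
      isClosed_closure
  have hirr : IsIrreducible (closure ({z} : Set X)) := isIrreducible_singleton.closure
  have heq : closure ({z} : Set X) ⊆ closure ({η} : Set X) := hη.2 hirr hcl
  have : η ⤳ z := specializes_iff_mem_closure.mpr (heq (subset_closure rfl))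
  exact this

theorem isField_stalk_of_mem_genericPoints [IsReduced X] {η : X} (hη : η ∈ genericPoints X) :
    IsField (X.presheaf.stalk η) := by
  haveI : Ring.KrullDimLE 0 (X.presheaf.stalk η) := by
    apply krullDimLE_of_coheight_le
    rw [Order.coheight_eq_zero.mpr (isMax_of_mem_genericPoints hη)]
    rfl
  exact Ring.KrullDimLE.isField_of_isReduced

end Groth.Agent.H5.TFQ
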