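import Mathlib

/-!
# A finite field extension embedded in an algebra which stays a domain after base change to
the extension is trivial (pure algebra)
-/

set_option autoImplicit false
universe u

open scoped TensorProduct

namespace Groth.Agent.H5.TFQ.GeoAlg

theorem finrank_eq_one_of_isDomain_tensor (k : Type u) [Field k] (k' : Type u) [Field k']
    [Algebra k k'] [Module.Finite k k'] (B : Type u) [CommRing B] [Algebra k B]
    (j : k' →ₐ[k] B) [IsDomain (B ⊗[k] k')] : Module.finrank k k' = 1 := by
  haveI : Nontrivial B := by
    by_contra h
    rw [not_nontrivial_iff_subsingleton] at h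
    haveI : Subsingleton (B ⊗[k] k') := by
      refine ⟨fun a b => ?_⟩
      have h1 : ∀ z : B ⊗[k] k', z = 0 := by
        intro z
        induction z using TensorProduct.induction_on with
        | zero => rfl
        | tmul x y => rw [Subsingleton.elim x 0, TensorProduct.zero_tmul]
        | add x y hx hy => rw [hx, hy, add_zero]
      rw [h1 a, h1 b]
    exact false_of_nontrivial_of_subsingleton (B ⊗[k] k')
  have hj : Function.Injective j := j.toRingHom.injective
  -- `k' ⊗ k'` embeds in `B ⊗ k'`
  let J : k' ⊗[k] k' →ₐ[k] B ⊗[k] k' := Algebra.TensorProduct.map j (AlgHom.id k k')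
  have hJ : Function.Injective J := by
    have := Module.Flat.rTensor_preserves_injective_linearMap (M := k') j.toLinearMap hj
    exact this
  haveI : IsDomain (k' ⊗[k] k') := hJ.isDomain J.toRingHom
  haveI : Algebra.IsIntegral k (k' ⊗[k] k') := Algebra.IsIntegral.of_finite k _
  have hfield : IsField (k' ⊗[k] k') :=
    isField_of_isIntegral_of_isField' (Field.toIsField k)
  letI := hfield.toField
  let μ : k' ⊗[k] k' →ₐ[k] k' := Algebra.TensorProduct.lmul' k
  have hμ : Function.Injective μ := μ.toRingHom.injective
  have h1 := LinearMap.finrank_le_finrank_of_injective (f := μ.toLinearMap) hμ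
  rw [Module.finrank_tensorProduct] at h1
  have hpos : 0 < Module.finrank k k' := Module.finrank_pos
  nlinarith

end Groth.Agent.H5.TFQ.GeoAlg
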