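import Mathlib
import Groth.Prelude.Def_Coh

/-!
# Coordinate rings of a geometrically integral scheme over a field stay domains after base change
-/

set_option autoImplicit false
set_option linter.style.haveILetI false
universe u
open CategoryTheory CategoryTheory.Limits AlgebraicGeometry TopologicalSpace Opposite
open scoped TensorProduct

namespace Groth.Agent.H5.TFQ.GeoInt

variable {k : Type u} [Field k] {Z : Scheme.{u}} (f : Z ⟶ Spec (CommRingCat.of k))

/-- the ring map `k → Γ(Z, V)`. -/
noncomputable def toSecK (V : Z.Opens) : k →+* Γ(Z, V) :=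
  (Z.presheaf.map (homOfLE le_top).op).hom.comp (Coh.toGlobal f)

lemma fromSpec_comp_eq {V : Z.Opens} (hV : IsAffineOpen V) :
    hV.fromSpec ≫ f = Spec.map (CommRingCat.ofHom (toSecK f V)) := by
  have h1 := IsAffineOpen.SpecMap_appLE_fromSpec f (isAffineOpen_top _) hV le_top
  rw [← h1]
  have h2 : (isAffineOpen_top (Spec (CommRingCat.of k))).fromSpec =
      Spec.map (Scheme.ΓSpecIso (CommRingCat.of k)).inv := by
    rw [IsAffineOpen.fromSpec_top, Scheme.isoSpec_Spec_inv]
  rw [h2, ← Spec.map_comp]
  rfl

/-- the coordinate ring of a nonempty affine open of a geometrically integral `k`-scheme stays a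
domain after tensoring with any field extension. -/
theorem isDomain_tensor [GeometricallyIntegral f] (V : Z.Opens) (hV : IsAffineOpen V)
    (hne : (V : Set Z).Nonempty) (E : Type u) [Field E] [Algebra k E] :
    letI : Algebra k Γ(Z, V) := (toSecK f V).toAlgebra
    IsDomain (Γ(Z, V) ⊗[k] E) := by
  letI alg : Algebra k Γ(Z, V) := (toSecK f V).toAlgebra
  set e := Spec.map (CommRingCat.ofHom (algebraMap k E)) with he
  haveI : IsIntegral (pullback f e) :=
    GeometricallyIntegral.geometrically_isIntegral (f := f) e _ _ (IsPullback.of_hasPullback f e)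
  have hfs : hV.fromSpec ≫ f = Spec.map (CommRingCat.ofHom (algebraMap k Γ(Z, V))) :=
    fromSpec_comp_eq f hV
  let j : pullback (Spec.map (CommRingCat.ofHom (algebraMap k Γ(Z, V)))) e ⟶ pullback f e :=
    pullback.map _ e f e hV.fromSpec (𝟙 _) (𝟙 _) (by rw [Category.comp_id, hfs])
      (by rw [Category.comp_id, Category.id_comp])
  haveI : IsOpenImmersion j := inferInstance
  haveI : Nonempty V := ⟨⟨hne.choose, hne.choose_spec⟩⟩
  haveI : Nontrivial Γ(Z, V) := inferInstance
  haveI : Nontrivial (Γ(Z, V) ⊗[k] E) :=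
    (Algebra.TensorProduct.includeLeft_injective (R := k) (S := k) (A := Γ(Z, V)) (B := E)
      (algebraMap k E).injective).nontrivial
  haveI : Nonempty (Spec (CommRingCat.of (Γ(Z, V) ⊗[k] E))) :=
    inferInstanceAs (Nonempty (PrimeSpectrum (Γ(Z, V) ⊗[k] E)))
  haveI : IsIntegral (Spec (CommRingCat.of (Γ(Z, V) ⊗[k] E))) :=
    isIntegral_of_isOpenImmersion ((pullbackSpecIso k Γ(Z, V) E).inv ≫ j)
  exact (affine_isIntegral_iff (CommRingCat.of (Γ(Z, V) ⊗[k] E))).mp inferInstance

end Groth.Agent.H5.TFQ.GeoInt
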