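import Mathlib
import Groth.Prelude.Def_VecSt
import Groth.Prelude.Def_CurvBase
import Groth.Agent.Lib.Helper5.TFQ.GeoInt1
import Groth.Agent.Lib.Helper5.TFQ.GeoAlg

/-!
# The base field is algebraically closed in the function field of a geometrically integral
component
-/

set_option autoImplicit false
set_option linter.style.haveILetI false
universe u
open CategoryTheory CategoryTheory.Limits AlgebraicGeometry TopologicalSpace Opposite
open scoped TensorProduct

namespace Groth.Agent.H5.TFQ.GeoInt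

variable (k : Type u) [Field k] {X : Scheme.{u}} [X.Over (Spec (CommRingCat.of k))]

theorem germ_toSecK (U : X.Opens) (x : X) (hx : x ∈ U) (c : k) :
    X.presheaf.germ U x hx (toSecK (X ↘ Spec (CommRingCat.of k)) U c) =
      Curv2.stalkMap k X x c :=
  TopCat.Presheaf.germ_res_apply X.presheaf (homOfLE (le_top : U ≤ ⊤)) x hx _

theorem res_toSecK {U W : X.Opens} (h : W ≤ U) (c : k) :
    X.presheaf.map (homOfLE h).op (toSecK (X ↘ Spec (CommRingCat.of k)) U c) =
      toSecK (X ↘ Spec (CommRingCat.of k)) W c := by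
  change (X.presheaf.map (homOfLE (le_top : U ≤ ⊤)).op ≫ X.presheaf.map (homOfLE h).op) _ = _
  rw [← X.presheaf.map_comp]
  rfl

theorem app_toSecK {Z : Scheme.{u}} (i : Z ⟶ X) (U : X.Opens) (c : k) :
    i.app U (toSecK (X ↘ Spec (CommRingCat.of k)) U c) =
      toSecK (i ≫ (X ↘ Spec (CommRingCat.of k))) (i ⁻¹ᵁ U) c := by
  have h := Scheme.Hom.naturality i (homOfLE (le_top : U ≤ ⊤)).op
  have h2 := congr($(h).hom (Coh.toGlobal (X ↘ Spec (CommRingCat.of k)) c))
  exact h2


attribute [local instance] Curv2.stalkAlgebra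

/-- an element of the local ring at the generic point of a geometrically integral component which
is algebraic over the base field comes from the base field. -/
theorem exists_eq_stalkMap_of_isAlgebraic (C : Set X) (hCcl : IsClosed C)
    [GeometricallyIntegral (VecSt.subschι X C hCcl ≫ (X ↘ Spec (CommRingCat.of k)))]
    (η : X) (hηC : η ∈ C) (hF : IsField (X.presheaf.stalk η))
    (α : X.presheaf.stalk η) (hα : IsAlgebraic k α) :
    ∃ c : k, α = Curv2.stalkMap k X η c := by
  letI := hF.toField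
  have hint : IsIntegral k α := hα.isIntegral
  set q₀ := minpoly k α with hq₀
  have hirr : Irreducible q₀ := minpoly.irreducible hint
  haveI : Fact (Irreducible q₀) := ⟨hirr⟩
  have hq0 : q₀ ≠ 0 := hirr.ne_zero
  have hroot : Polynomial.eval₂ (Curv2.stalkMap k X η) α q₀ = 0 := minpoly.aeval k α
  -- spread out
  obtain ⟨U₀, hU₀, a₀, rfl⟩ := TopCat.Presheaf.exists_germ_eq X.presheaf α
  obtain ⟨b, hb⟩ : ∃ b : Γ(X, U₀), b =
      Polynomial.eval₂ (toSecK (X ↘ Spec (CommRingCat.of k)) U₀) a₀ q₀ := ⟨_, rfl⟩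
  have hgb : X.presheaf.germ U₀ η hU₀ b = X.presheaf.germ U₀ η hU₀ 0 := by
    rw [hb, map_zero, Polynomial.hom_eval₂]
    have : (X.presheaf.germ U₀ η hU₀).hom.comp (toSecK (X ↘ Spec (CommRingCat.of k)) U₀) =
        Curv2.stalkMap k X η := by
      ext c
      exact germ_toSecK k U₀ η hU₀ c
    rw [this]
    exact hroot
  obtain ⟨W, hW, iW, iW', hWeq⟩ := TopCat.Presheaf.germ_eq X.presheaf η hU₀ hU₀ b 0 hgb
  obtain ⟨U, hUaff, hηU, hUW⟩ := exists_isAffineOpen_mem_and_subset (x := η) (U := W) hW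
  have hUU₀ : U ≤ U₀ := fun y hy => iW.le (hUW hy)
  obtain ⟨a, ha⟩ : ∃ a : Γ(X, U), a = X.presheaf.map (homOfLE hUU₀).op a₀ := ⟨_, rfl⟩
  have h0 : Polynomial.eval₂ (toSecK (X ↘ Spec (CommRingCat.of k)) U) a q₀ = 0 := by
    have h1 : X.presheaf.map (homOfLE hUU₀).op b = 0 := by
      have h2 : X.presheaf.map (homOfLE hUU₀).op b =
          X.presheaf.map (homOfLE hUW).op (X.presheaf.map iW.op b) := by
        rw [← ConcreteCategory.comp_apply, ← X.presheaf.map_comp]
        rfl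
      rw [h2, hWeq, map_zero, map_zero]
    rw [hb, Polynomial.hom_eval₂] at h1
    have h3 : (X.presheaf.map (homOfLE hUU₀).op).hom.comp
        (toSecK (X ↘ Spec (CommRingCat.of k)) U₀) = toSecK (X ↘ Spec (CommRingCat.of k)) U := by
      ext c
      exact res_toSecK k hUU₀ c
    rw [h3] at h1
    rw [ha]
    exact h1
  -- the field `k' = k[t]/(q₀)` maps to the coordinate ring of the component
  set i := VecSt.subschι X C hCcl with hi
  have hVaff : IsAffineOpen (i ⁻¹ᵁ U) := hUaff.preimage i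
  have hVne : ((i ⁻¹ᵁ U : (VecSt.subsch X C hCcl).Opens) : Set (VecSt.subsch X C hCcl)).Nonempty := by
    have hr : η ∈ Set.range i := by
      rw [hi, Scheme.IdealSheafData.range_subschemeι,
        Scheme.IdealSheafData.coe_support_vanishingIdeal]
      exact hηC
    obtain ⟨z, hz⟩ := hr
    exact ⟨z, by change i z ∈ U; rw [hz]; exact hηU⟩
  letI algB : Algebra k Γ(VecSt.subsch X C hCcl, i ⁻¹ᵁ U) :=
    (toSecK (i ≫ (X ↘ Spec (CommRingCat.of k))) (i ⁻¹ᵁ U)).toAlgebra
  haveI hdom := isDomain_tensor (i ≫ (X ↘ Spec (CommRingCat.of k))) (i ⁻¹ᵁ U) hVaff hVne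
    (AdjoinRoot q₀)
  let J₀ : AdjoinRoot q₀ →+* Γ(VecSt.subsch X C hCcl, i ⁻¹ᵁ U) :=
    (i.app U).hom.comp (AdjoinRoot.lift (toSecK (X ↘ Spec (CommRingCat.of k)) U) a h0)
  let J : AdjoinRoot q₀ →ₐ[k] Γ(VecSt.subsch X C hCcl, i ⁻¹ᵁ U) :=
    { J₀ with
      commutes' := fun c => by
        change (i.app U).hom (AdjoinRoot.lift (toSecK (X ↘ Spec (CommRingCat.of k)) U) a h0
          (AdjoinRoot.of q₀ c)) = toSecK (i ≫ (X ↘ Spec (CommRingCat.of k))) (i ⁻¹ᵁ U) c
        rw [AdjoinRoot.lift_of]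
        exact app_toSecK k i U c }
  haveI : Module.Finite k (AdjoinRoot q₀) := (AdjoinRoot.powerBasis hq0).finite
  have hfr := GeoAlg.finrank_eq_one_of_isDomain_tensor k (AdjoinRoot q₀) _ J
  have hdeg : q₀.natDegree = 1 := by
    rw [← hfr, (AdjoinRoot.powerBasis hq0).finrank, AdjoinRoot.powerBasis_dim]
  have hmem := (minpoly.natDegree_eq_one_iff (A := k) (x := X.presheaf.germ U₀ η hU₀ a₀)).mp hdeg
  obtain ⟨c, hc⟩ := hmem
  exact ⟨c, hc.symm⟩

end Groth.Agent.H5.TFQ.GeoInt
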