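import Mathlib

/-!
# Fibre of a finite module over a local algebra with finite residue field (pure algebra)
-/

set_option autoImplicit false
universe u v w

namespace Groth.Agent.H5.TFQ.FibAlg

open IsLocalRing

variable (k : Type u) [Field k] (R : Type v) [CommRing R] [IsLocalRing R] [Algebra k R]
  (N : Type w) [AddCommGroup N] [Module R N] [Module k N] [IsScalarTower k R N]

/-- the fibre `N / 𝔪 N`. -/
abbrev Fib : Type w := N ⧸ (maximalIdeal R • (⊤ : Submodule R N))

instance : IsScalarTower k (R ⧸ maximalIdeal R) (Fib R N) := by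
  refine ⟨fun c r v => ?_⟩
  obtain ⟨r, rfl⟩ := Ideal.Quotient.mk_surjective r
  obtain ⟨n, rfl⟩ := Submodule.Quotient.mk_surjective _ v
  change (Ideal.Quotient.mk _ (c • r)) • Submodule.Quotient.mk n =
    c • (Ideal.Quotient.mk _ r • Submodule.Quotient.mk n)
  change (Submodule.Quotient.mk ((c • r) • n) : Fib R N) = c • Submodule.Quotient.mk (r • n)
  rw [← Submodule.Quotient.mk_smul, smul_assoc]

theorem finite_fib [Module.Finite R N] [Module.Finite k (R ⧸ maximalIdeal R)] :
    Module.Finite k (Fib R N) :=
  Module.Finite.trans (R ⧸ maximalIdeal R) (Fib R N)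

/-- an `R`-linear endomorphism induces a `k`-linear endomorphism of the fibre. -/
noncomputable def fibMap (f : N →ₗ[R] N) : Module.End k (Fib R N) :=
  (Submodule.mapQ _ _ f (by
    rw [Submodule.smul_le]
    intro r hr n _
    rw [Submodule.mem_comap, map_smul]
    exact Submodule.smul_mem_smul hr trivial)).restrictScalars k

theorem fibMap_mk (f : N →ₗ[R] N) (n : N) :
    fibMap k R N f (Submodule.Quotient.mk n) = Submodule.Quotient.mk (f n) := rfl

theorem mem_of_fibMap_eq_zero (f : N →ₗ[R] N) (h : fibMap k R N f = 0) (n : N) :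
    f n ∈ maximalIdeal R • (⊤ : Submodule R N) := by
  have := congrArg (fun g => g (Submodule.Quotient.mk n)) h
  simp only [fibMap_mk, LinearMap.zero_apply] at this
  exact (Submodule.Quotient.mk_eq_zero _).mp this

/-- in a `k`-algebra mapping to the endomorphisms of a finite dimensional space every element
is killed by a monic polynomial after applying the map. -/
theorem exists_monic_map_aeval_eq_zero {A : Type*} [Ring A] [Algebra k A]
    {V : Type*} [AddCommGroup V] [Module k V] [Module.Finite k V]
    (Θ : A →ₐ[k] Module.End k V) (a : A) :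
    ∃ p : Polynomial k, p.Monic ∧ Θ (Polynomial.aeval a p) = 0 := by
  obtain ⟨p, hp, hp0⟩ := Algebra.IsIntegral.isIntegral (R := k) (Θ a)
  refine ⟨p, hp, ?_⟩
  rw [← Polynomial.aeval_algHom_apply]
  exact hp0

/-- Nakayama: a submodule of a finite module over a local ring which is stable in the sense
`range f ≤ 𝔪 • range f` vanishes. -/
theorem range_eq_bot_of_le_smul [Module.Finite R N] (f : N →ₗ[R] N)
    (h : LinearMap.range f ≤ maximalIdeal R • LinearMap.range f) : LinearMap.range f = ⊥ := by
  apply Submodule.eq_bot_of_le_smul_of_le_jacobson_bot (maximalIdeal R) _ _ h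
  · exact (IsLocalRing.jacobson_eq_maximalIdeal ⊥ bot_ne_top).ge
  · rw [LinearMap.range_eq_map]
    exact Submodule.FG.map f Module.Finite.fg_top

end Groth.Agent.H5.TFQ.FibAlg
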