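import Mathlib
import Groth.Agent.Lib.Helper5.TFQ.Basic

set_option autoImplicit false
set_option linter.style.haveILetI false
universe u
open CategoryTheory CategoryTheory.Limits AlgebraicGeometry TopologicalSpace Opposite

namespace Groth.Agent.H5.TFQ

open Groth.Agent.LD Groth.Agent.LD.QC Groth.Agent.H5.Dec Groth.Agent.H5.Snap

attribute [-instance] Groth.Agent.LD.QC.stalkModule

variable {X : Scheme.{u}}

/-- at a generic point of a reduced scheme, an epimorphism from a rank one module onto a module
with nonzero stalk is injective on the stalk. -/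
theorem injective_stalk_of_rkOne [IsReduced X] {M G : X.Modules} (hM : TFOne.IsRkOne X M)
    (π : M ⟶ G) [Epi π] (η : X) (hη : η ∈ genericPoints X) (hG : η ∈ CohB1.support G) :
    Function.Injective (stalkFun π η) := by
  have hF := isField_stalk_of_mem_genericPoints hη
  letI : Field (X.presheaf.stalk η) := hF.toField
  obtain ⟨e⟩ := hM η hη
  have hadd : ∀ a b, stalkFun π η (a - b) = stalkFun π η a - stalkFun π η b := fun a b =>
    map_sub ((TopCat.Presheaf.stalkFunctor _ η).map π.mapPresheaf).hom a b
  intro a b hab
  by_contra hne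
  have hm : a - b ≠ 0 := sub_ne_zero.mpr hne
  have hm0 : stalkFun π η (a - b) = 0 := by rw [hadd, hab, sub_self]
  have hu : e (a - b) ≠ 0 := fun h => hm (e.map_eq_zero_iff.mp h)
  apply hG
  apply subsingleton_of_forall_eq_zero
  intro g
  obtain ⟨m', rfl⟩ := sf_surjective π η g
  have hm' : m' = (e m' * (e (a - b))⁻¹) • (a - b) := by
    apply e.injective
    rw [map_smul, smul_eq_mul, mul_assoc, inv_mul_cancel₀ hu, mul_one]
  rw [hm', stalkMap_smul, hm0, smul_zero]

/-- a nonzero torsion-free coherent module on a reduced locally Noetherian scheme has a nonzero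
stalk at some generic point. -/
theorem exists_generic_mem_support [IsLocallyNoetherian X] [IsReduced X] (F : X.Modules)
    (hF : Coh.IsCoh F) (htf : TorSh.IsTorsionFree F) (h0 : ¬ IsZero F) :
    ∃ η ∈ genericPoints X, η ∈ CohB1.support F := by
  haveI := hF.1
  obtain ⟨Z, hZ, hZF⟩ := exists_component_subset_support F (isClosed_support_of_isCoh hF) htf h0
  obtain ⟨η, hη⟩ := QuasiSober.sober hZ.1 (isClosed_of_mem_irreducibleComponents Z hZ)
  refine ⟨η, ?_, hZF ?_⟩
  · change closure ({η} : Set X) ∈ irreducibleComponents X
    rw [hη.def]; exact hZ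
  · rw [← hη.def]; exact subset_closure rfl

/-- a morphism from a quasi-coherent module to a torsion-free coherent module which vanishes on the stalks
at the generic points is zero. -/
theorem eq_zero_of_generic [IsLocallyNoetherian X] [IsReduced X] {A G : X.Modules}
    (hA : A.IsQuasicoherent) (hG : Coh.IsCoh G) (htf : TorSh.IsTorsionFree G) (f : A ⟶ G)
    (h : ∀ η ∈ genericPoints X, ∀ a : A.presheaf.stalk η, stalkFun f η a = 0) : f = 0 := by
  by_contra hne
  have hI0 : ¬ IsZero (Abelian.image f) := by
    intro hI
    apply hne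
    rw [← Abelian.image.fac f, hI.eq_of_tgt (Abelian.factorThruImage f) 0, zero_comp]
  have hIq : (Abelian.image f).IsQuasicoherent := qc_kernel _ hG.1 (qc_cokernel f hA hG.1)
  have hIc : Coh.IsCoh (Abelian.image f) := isCoh_of_mono (Abelian.image.ι f) hIq hG
  have hItf : TorSh.IsTorsionFree (Abelian.image f) := isTorsionFree_of_mono (Abelian.image.ι f) htf
  obtain ⟨η, hη, hηI⟩ := exists_generic_mem_support _ hIc hItf hI0
  apply hηI
  apply subsingleton_of_forall_eq_zero
  intro m
  obtain ⟨a, rfl⟩ := sf_surjective (Abelian.factorThruImage f) η m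
  apply sf_injective (Abelian.image.ι f) η
  rw [← sf_comp, Abelian.image.fac, h η hη, sf_map_zero]

end Groth.Agent.H5.TFQ
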