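import Mathlib
import Groth.Agent.Lib.Helper5.TFQ.Gen

set_option autoImplicit false
set_option linter.style.haveILetI false
universe u
open CategoryTheory CategoryTheory.Limits AlgebraicGeometry TopologicalSpace Opposite

namespace Groth.Agent.H5.TFQ

open Groth.Agent.LD Groth.Agent.LD.QC Groth.Agent.H5.Dec Groth.Agent.H5.Snap

attribute [-instance] Groth.Agent.LD.QC.stalkModule

variable {X : Scheme.{u}}

/-- in a scheme all of whose irreducible components have dimension one, a point which is not a
generic point is closed. -/
theorem isClosed_singleton_of_not_generic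
    (hpure : ∀ C ∈ irreducibleComponents (X : Type u), topologicalKrullDim C = 1) (x : X)
    (hx : x ∉ genericPoints X) : IsClosed ({x} : Set X) := by
  have hC := irreducibleComponent_mem_irreducibleComponents x
  have hCcl : IsClosed (irreducibleComponent x) := isClosed_irreducibleComponent
  obtain ⟨η, hη⟩ := QuasiSober.sober hC.1 hCcl
  have hxC : x ∈ closure ({η} : Set X) := by rw [hη.def]; exact mem_irreducibleComponent
  have hdimC : topologicalKrullDim (closure ({η} : Set X)) ≤ ((1 : ℕ) : WithBot ℕ∞) := by
    rw [hη.def, hpure _ hC]; rfl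
  have hsub : closure ({x} : Set X) ⊆ closure ({η} : Set X) :=
    closure_minimal (Set.singleton_subset_iff.mpr hxC) isClosed_closure
  have hnon : ∀ y : X, (0 : WithBot ℕ∞) ≤ topologicalKrullDim (closure ({y} : Set X)) := by
    intro y
    haveI : Nonempty (closure ({y} : Set X)) := ⟨⟨y, subset_closure rfl⟩⟩
    exact Groth.Agent.H5.AG.topologicalKrullDim_nonneg _
  have hle1 : topologicalKrullDim (closure ({x} : Set X)) ≤ ((1 : ℕ) : WithBot ℕ∞) :=
    (dim_mono hsub).trans hdimC
  have hne1 : topologicalKrullDim (closure ({x} : Set X)) ≠ ((1 : ℕ) : WithBot ℕ∞) := by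
    intro h1
    have hxe : x = η := eq_of_dim_closure_eq x η hxC 1 hdimC h1
    apply hx
    change closure ({x} : Set X) ∈ irreducibleComponents X
    rw [hxe, hη.def]; exact hC
  have hle0 : topologicalKrullDim (closure ({x} : Set X)) ≤ ((0 : ℕ) : WithBot ℕ∞) := by
    have hlt := lt_of_le_of_ne hle1 hne1
    cases h : topologicalKrullDim (closure ({x} : Set X)) with
    | bot => exact bot_le
    | coe a =>
      rw [h] at hlt
      have h1 : ((1 : ℕ) : WithBot ℕ∞) = ((1 : ℕ∞) : WithBot ℕ∞) := rfl
      rw [h1, WithBot.coe_lt_coe, ENat.lt_one_iff_eq_zero] at hlt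
      rw [hlt]; rfl
  apply isClosed_of_closure_subset
  intro y hy
  have hsuby : closure ({y} : Set X) ⊆ closure ({x} : Set X) :=
    closure_minimal (Set.singleton_subset_iff.mpr hy) isClosed_closure
  have hy0 : topologicalKrullDim (closure ({y} : Set X)) = ((0 : ℕ) : WithBot ℕ∞) :=
    le_antisymm ((dim_mono hsuby).trans hle0) (by exact_mod_cast hnon y)
  exact eq_of_dim_closure_eq y x hy 0 hle0 hy0

variable (k : Type u) [Field k] [X.Over (Spec (CommRingCat.of k))]
  [IsProper (X ↘ Spec (CommRingCat.of k))]

include k in
theorem isLocallyNoetherian_of_proper : IsLocallyNoetherian X :=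
  LocallyOfFiniteType.isLocallyNoetherian (X ↘ Spec (CommRingCat.of k))

/-- a coherent module with zero stalks at the generic points of a proper scheme of pure
dimension one has nonnegative Euler characteristic. -/
theorem euler_nonneg_of_generic_zero
    (hpure : ∀ C ∈ irreducibleComponents (X : Type u), topologicalKrullDim C = 1)
    (K : X.Modules) (hK : Coh.IsCoh K)
    (h : ∀ η ∈ genericPoints X, Subsingleton (K.presheaf.stalk η)) :
    0 ≤ Curv2.euler k X K := by
  haveI := isLocallyNoetherian_of_proper (X := X) k
  have hpt : ∀ x : X, ¬ Subsingleton (K.presheaf.stalk x) → IsClosed ({x} : Set X) := by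
    intro x hx
    apply isClosed_singleton_of_not_generic hpure
    intro hg
    exact hx (h x hg)
  have hvan : ∀ p, 0 < p → Subsingleton (Coh.HH X K p) := by
    intro p hp
    obtain ⟨q, rfl⟩ : ∃ q, p = q + 1 := ⟨p - 1, by omega⟩
    exact Groth.Agent.LD.SC.subsingleton_HH_of_support_closed_points K
      (isClosed_support_of_isCoh hK) hpt q
  rw [Groth.Agent.LD.Curve.euler_eq_sum k X K 0 hvan]
  simp

end Groth.Agent.H5.TFQ
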