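import Mathlib
import Groth.Prelude.Def_VecSt
import Groth.Agent.Lib.Helper5.TFQ.Chi

set_option autoImplicit false
set_option linter.style.haveILetI false
universe u
open CategoryTheory CategoryTheory.Limits AlgebraicGeometry TopologicalSpace Opposite

namespace Groth.Agent.H5.TFQ

open Groth.Agent.LD Groth.Agent.LD.QC Groth.Agent.H5.Dec Groth.Agent.H5.Snap

attribute [-instance] Groth.Agent.LD.QC.stalkModule

variable {X : Scheme.{u}}

theorem shortExact_kernel {A B : X.Modules} (g : A ⟶ B) [Epi g] :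
    (ShortComplex.mk (kernel.ι g) g (kernel.condition g)).ShortExact :=
  { exact := ShortComplex.exact_of_f_is_kernel _ (kernelIsKernel g)
    mono_f := inferInstanceAs (Mono (kernel.ι g))
    epi_g := inferInstanceAs (Epi g) }

theorem shortExact_cokernel {A B : X.Modules} (f : A ⟶ B) [Mono f] :
    (ShortComplex.mk f (cokernel.π f) (cokernel.condition f)).ShortExact :=
  { exact := ShortComplex.exact_of_g_is_cokernel _ (cokernelIsCokernel f)
    mono_f := inferInstanceAs (Mono f)
    epi_g := inferInstanceAs (Epi (cokernel.π f)) }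

section Quot

variable [IsReduced X] {M : X.Modules} (hM : TFOne.IsTF1 X M)

include hM in
/-- the stalk of a torsion-free quotient at a generic point of its support is the stalk of `M`. -/
theorem quot_injective {T : Set X} {G : X.Modules} {π : M ⟶ G} (hG : TFOne.IsQuotOn X M T G π)
    {η : X} (hη : η ∈ genericPoints X) (hT : η ∈ T) : Function.Injective (stalkFun π η) := by
  haveI := hG.1
  exact injective_stalk_of_rkOne hM.2.2 π η hη (by rw [hG.2.2.2]; exact hT)

theorem quot_eq_zero {T : Set X} {G : X.Modules} {π : M ⟶ G} (hG : TFOne.IsQuotOn X M T G π)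
    {η : X} (hT : η ∉ T) (g : G.presheaf.stalk η) : g = 0 := by
  have : Subsingleton (G.presheaf.stalk η) := by
    by_contra h
    have : η ∈ CohB1.support G := h
    rw [hG.2.2.2] at this
    exact hT this
  exact Subsingleton.elim _ _

include hM in
/-- the quotient on a smaller set factors through the quotient on a bigger set. -/
theorem kernel_comp_eq_zero [IsLocallyNoetherian X] {T T' : Set X} (hTT : T' ⊆ T)
    {G G' : X.Modules} {π : M ⟶ G} {π' : M ⟶ G'} (hG : TFOne.IsQuotOn X M T G π)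
    (hG' : TFOne.IsQuotOn X M T' G' π') : kernel.ι π ≫ π' = 0 := by
  apply eq_zero_of_generic (qc_kernel π hM.1.1 hG.2.1.1) hG'.2.1 hG'.2.2.1
  intro η hη a
  by_cases hT' : η ∈ T'
  · have h1 : stalkFun π η (stalkFun (kernel.ι π) η a) = 0 := by
      rw [← sf_comp, kernel.condition, sf_zero]
    have h2 : stalkFun (kernel.ι π) η a = 0 :=
      quot_injective hM hG hη (hTT hT') (h1.trans (sf_map_zero π η).symm)
    rw [sf_comp, h2, sf_map_zero]
  · exact quot_eq_zero hG' hT' _

end Quot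

section Main

variable (k : Type u) [Field k] [X.Over (Spec (CommRingCat.of k))]
  [IsProper (X ↘ Spec (CommRingCat.of k))] [IsReduced X]

theorem euler_ineq
    (hpure : ∀ C ∈ irreducibleComponents (X : Type u), topologicalKrullDim C = 1)
    (M : X.Modules) (hM : TFOne.IsTF1 X M) (Y Z W : Set X) (hY : IsClosed Y) (hZ : IsClosed Z)
    (hW : W = ⋃₀ {C | C ∈ irreducibleComponents (X : Type u) ∧ C ⊆ Y ∩ Z})
    (GY GZ GU GW : X.Modules) (πY : M ⟶ GY) (πZ : M ⟶ GZ) (πU : M ⟶ GU) (πW : M ⟶ GW)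
    (hGY : TFOne.IsQuotOn X M Y GY πY) (hGZ : TFOne.IsQuotOn X M Z GZ πZ)
    (hGU : TFOne.IsQuotOn X M (Y ∪ Z) GU πU) (hGW : TFOne.IsQuotOn X M W GW πW) :
    Curv2.euler k X GU + Curv2.euler k X GW ≤ Curv2.euler k X GY + Curv2.euler k X GZ := by
  haveI := isLocallyNoetherian_of_proper (X := X) k
  haveI := hGY.1
  haveI := hGZ.1
  haveI := hGU.1
  haveI := hGW.1
  have hWY : W ⊆ Y := by
    rw [hW]; rintro x ⟨C, ⟨-, hC⟩, hx⟩; exact (hC hx).1
  have hWZ : W ⊆ Z := by
    rw [hW]; rintro x ⟨C, ⟨-, hC⟩, hx⟩; exact (hC hx).2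
  have hWgen : ∀ η ∈ genericPoints X, η ∈ Y → η ∈ Z → η ∈ W := by
    intro η hη hy hz
    rw [hW]
    refine ⟨closure {η}, ⟨hη, ?_⟩, subset_closure rfl⟩
    exact closure_minimal (Set.singleton_subset_iff.mpr ⟨hy, hz⟩) (hY.inter hZ)
  -- the induced maps
  let jY : GU ⟶ GY := Abelian.epiDesc πU πY
    (kernel_comp_eq_zero hM Set.subset_union_left hGU hGY)
  let jZ : GU ⟶ GZ := Abelian.epiDesc πU πZ
    (kernel_comp_eq_zero hM Set.subset_union_right hGU hGZ)
  let pY : GY ⟶ GW := Abelian.epiDesc πY πW (kernel_comp_eq_zero hM hWY hGY hGW)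
  let pZ : GZ ⟶ GW := Abelian.epiDesc πZ πW (kernel_comp_eq_zero hM hWZ hGZ hGW)
  have hjY : πU ≫ jY = πY := Abelian.comp_epiDesc _ _ _
  have hjZ : πU ≫ jZ = πZ := Abelian.comp_epiDesc _ _ _
  have hpY : πY ≫ pY = πW := Abelian.comp_epiDesc _ _ _
  have hpZ : πZ ≫ pZ = πW := Abelian.comp_epiDesc _ _ _
  haveI : Epi jY := epi_of_epi_fac hjY
  haveI : Epi pZ := epi_of_epi_fac hpZ
  have hsq : jY ≫ pY = jZ ≫ pZ := by
    rw [← cancel_epi πU, ← Category.assoc, ← Category.assoc, hjY, hjZ, hpY, hpZ]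
  -- the comparison of the kernels
  have hθ : (kernel.ι jY ≫ jZ) ≫ pZ = 0 := by
    rw [Category.assoc, ← hsq, ← Category.assoc, kernel.condition, zero_comp]
  let θ : kernel jY ⟶ kernel pZ := kernel.lift pZ (kernel.ι jY ≫ jZ) hθ
  have hθι : θ ≫ kernel.ι pZ = kernel.ι jY ≫ jZ := kernel.lift_ι _ _ _
  have hNc : Coh.IsCoh (kernel jY) := isCoh_kernel jY hGU.2.1 hGY.2.1
  have hN'c : Coh.IsCoh (kernel pZ) := isCoh_kernel pZ hGZ.2.1 hGW.2.1
  -- θ is a monomorphism
  haveI : Mono θ := by
    apply Preadditive.mono_of_kernel_zero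
    have h0 : kernel.ι θ ≫ kernel.ι jY = 0 := by
      apply eq_zero_of_generic (qc_kernel θ hNc.1 hN'c.1) hGU.2.1 hGU.2.2.1
      intro η hη a
      rw [sf_comp]
      obtain ⟨n, hn⟩ : ∃ n, n = stalkFun (kernel.ι θ) η a := ⟨_, rfl⟩
      obtain ⟨b, hb⟩ : ∃ b, b = stalkFun (kernel.ι jY) η n := ⟨_, rfl⟩
      rw [← hn, ← hb]
      have h1 : stalkFun jY η b = 0 := by
        rw [hb, ← sf_comp, kernel.condition, sf_zero]
      have h7 : stalkFun θ η n = 0 := by rw [hn, ← sf_comp, kernel.condition, sf_zero]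
      have h2 : stalkFun jZ η b = 0 := by
        rw [hb, ← sf_comp, ← hθι, sf_comp, h7, sf_map_zero]
      obtain ⟨m, hm⟩ := sf_surjective πU η b
      have h3 : stalkFun πY η m = 0 := by rw [← hjY, sf_comp, hm, h1]
      have h4 : stalkFun πZ η m = 0 := by rw [← hjZ, sf_comp, hm, h2]
      by_cases hy : η ∈ Y
      · have : m = 0 := quot_injective hM hGY hη hy (h3.trans (sf_map_zero πY η).symm)
        rw [← hm, this, sf_map_zero]
      · by_cases hz : η ∈ Z
        · have : m = 0 := quot_injective hM hGZ hη hz (h4.trans (sf_map_zero πZ η).symm)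
          rw [← hm, this, sf_map_zero]
        · exact quot_eq_zero hGU (fun h => h.elim hy hz) _
    exact (cancel_mono (kernel.ι jY)).mp (h0.trans zero_comp.symm)
  -- the cokernel of θ has zero generic stalks
  have hQc : Coh.IsCoh (cokernel θ) := isCoh_cokernel θ hNc hN'c
  have hQgen : ∀ η ∈ genericPoints X, Subsingleton ((cokernel θ).presheaf.stalk η) := by
    intro η hη
    apply subsingleton_of_forall_eq_zero
    intro q
    obtain ⟨n', rfl⟩ := sf_surjective (cokernel.π θ) η q
    suffices h : ∃ n, stalkFun θ η n = n' by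
      obtain ⟨n, rfl⟩ := h
      rw [← sf_comp, cokernel.condition, sf_zero]
    obtain ⟨c, hc⟩ : ∃ c, c = stalkFun (kernel.ι pZ) η n' := ⟨_, rfl⟩
    have hc0 : stalkFun pZ η c = 0 := by
      rw [hc, ← sf_comp, kernel.condition, sf_zero]
    obtain ⟨m, hm⟩ := sf_surjective πZ η c
    have hzero : c = 0 → ∃ n, stalkFun θ η n = n' := by
      intro h0
      refine ⟨0, ?_⟩
      rw [sf_map_zero]
      apply sf_injective (kernel.ι pZ) η
      rw [← hc, h0, sf_map_zero]
    by_cases hz : η ∈ Z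
    · by_cases hw : η ∈ W
      · apply hzero
        have h5 : stalkFun πW η m = 0 := by rw [← hpZ, sf_comp, hm, hc0]
        have : m = 0 := quot_injective hM hGW hη hw (h5.trans (sf_map_zero πW η).symm)
        rw [← hm, this, sf_map_zero]
      · have hy : η ∉ Y := fun hy => hw (hWgen η hη hy hz)
        obtain ⟨b, hb⟩ : ∃ b, b = stalkFun πU η m := ⟨_, rfl⟩
        have h6 : stalkFun jY η b = 0 := quot_eq_zero hGY hy _
        obtain ⟨n, hn⟩ := sf_exact (shortExact_kernel jY) η b h6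
        refine ⟨n, ?_⟩
        apply sf_injective (kernel.ι pZ) η
        have hn' : stalkFun (kernel.ι jY) η n = b := hn
        rw [← sf_comp, hθι, sf_comp, hn', hb, ← sf_comp, hjZ, hm, hc]
    · exact hzero (quot_eq_zero hGZ hz _)
  have hQ0 := euler_nonneg_of_generic_zero k hpure (cokernel θ) hQc hQgen
  -- Euler characteristics
  have e1 := Groth.Agent.LD.Curve.euler_add k X _ (shortExact_kernel jY) hNc hGU.2.1 hGY.2.1
  have e2 := Groth.Agent.LD.Curve.euler_add k X _ (shortExact_kernel pZ) hN'c hGZ.2.1 hGW.2.1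
  have e3 := Groth.Agent.LD.Curve.euler_add k X _ (shortExact_cokernel θ) hNc hN'c hQc
  simp only at e1 e2 e3
  linarith

end Main

end Groth.Agent.H5.TFQ
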