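import Mathlib
import Groth.Prelude.Def_VecSt
import Groth.Prelude.Def_KLin
import Groth.Agent.Lib.Helper5.TFQ.Main

set_option autoImplicit false
set_option linter.style.haveILetI false
universe u
open CategoryTheory CategoryTheory.Limits AlgebraicGeometry TopologicalSpace Opposite

namespace Groth.Agent.H5.TFQ

open Groth.Agent.LD Groth.Agent.LD.QC Groth.Agent.H5.Dec Groth.Agent.H5.Snap

attribute [-instance] Groth.Agent.LD.QC.stalkModule

variable {X : Scheme.{u}}

section Quot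

variable [IsReduced X] [IsLocallyNoetherian X] {M : X.Modules} (hM : TFOne.IsTF1 X M)

include hM in
/-- an endomorphism of `M` descends to the torsion-free quotient. -/
theorem kernel_comp_endo_eq_zero {T : Set X} {G : X.Modules} {π : M ⟶ G}
    (hG : TFOne.IsQuotOn X M T G π) (φ : M ⟶ M) : kernel.ι π ≫ φ ≫ π = 0 := by
  apply eq_zero_of_generic (qc_kernel π hM.1.1 hG.2.1.1) hG.2.1 hG.2.2.1
  intro η hη a
  by_cases hT : η ∈ T
  · have h1 : stalkFun π η (stalkFun (kernel.ι π) η a) = 0 := by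
      rw [← sf_comp, kernel.condition, sf_zero]
    have h2 : stalkFun (kernel.ι π) η a = 0 :=
      quot_injective hM hG hη hT (h1.trans (sf_map_zero π η).symm)
    rw [sf_comp, h2, sf_map_zero]
  · exact quot_eq_zero hG hT _

include hM in
/-- a morphism to `M` killed by the quotients on `Y` and `Z` with `Y ∪ Z = X` is zero. -/
theorem eq_zero_of_comp_quot {Y Z : Set X} (hcov : Y ∪ Z = Set.univ) {GY GZ : X.Modules}
    {πY : M ⟶ GY} {πZ : M ⟶ GZ} (hGY : TFOne.IsQuotOn X M Y GY πY)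
    (hGZ : TFOne.IsQuotOn X M Z GZ πZ) {A : X.Modules} (hA : A.IsQuasicoherent) (ψ : A ⟶ M)
    (hψY : ψ ≫ πY = 0) (hψZ : ψ ≫ πZ = 0) : ψ = 0 := by
  apply eq_zero_of_generic hA hM.1 hM.2.1
  intro η hη a
  have hmem : η ∈ Y ∪ Z := by rw [hcov]; trivial
  rcases hmem with hy | hz
  · apply quot_injective hM hGY hη hy
    rw [← sf_comp, hψY, sf_zero, sf_map_zero]
  · apply quot_injective hM hGZ hη hz
    rw [← sf_comp, hψZ, sf_zero, sf_map_zero]

end Quot

section Simple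

variable (k : Type u) [Field k] [X.Over (Spec (CommRingCat.of k))] [IsReduced X]
  [IsLocallyNoetherian X]

theorem isSimple_of_cover (M : X.Modules) (hM : TFOne.IsTF1 X M) (Y Z : Set X)
    (hY : IsClosed Y) (hZ : IsClosed Z)
    (hcov : Y ∪ Z = Set.univ) (hmeet : ∃ C ∈ irreducibleComponents (X : Type u), C ⊆ Y ∩ Z)
    (GY GZ : X.Modules) (πY : M ⟶ GY) (πZ : M ⟶ GZ)
    (hGY : TFOne.IsQuotOn X M Y GY πY) (hGZ : TFOne.IsQuotOn X M Z GZ πZ)
    (hsY : TFOne.IsSimple X k (X ↘ Spec (CommRingCat.of k)) GY)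
    (hsZ : TFOne.IsSimple X k (X ↘ Spec (CommRingCat.of k)) GZ) :
    TFOne.IsSimple X k (X ↘ Spec (CommRingCat.of k)) M := by
  haveI := hGY.1
  haveI := hGZ.1
  refine ⟨fun h0 => hsY.1 (IsZero.of_epi πY h0), ?_⟩
  intro φ
  -- the induced endomorphisms
  let φY : GY ⟶ GY := Abelian.epiDesc πY (φ ≫ πY) (kernel_comp_endo_eq_zero hM hGY φ)
  let φZ : GZ ⟶ GZ := Abelian.epiDesc πZ (φ ≫ πZ) (kernel_comp_endo_eq_zero hM hGZ φ)
  have hφY : πY ≫ φY = φ ≫ πY := Abelian.comp_epiDesc _ _ _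
  have hφZ : πZ ≫ φZ = φ ≫ πZ := Abelian.comp_epiDesc _ _ _
  obtain ⟨cY, hcY⟩ := hsY.2 φY
  obtain ⟨cZ, hcZ⟩ := hsZ.2 φZ
  have hcY' : φY = cY • 𝟙 GY := hcY.trans (KLin.smul_id GY cY).symm
  have hcZ' : φZ = cZ • 𝟙 GZ := hcZ.trans (KLin.smul_id GZ cZ).symm
  have hY0 : (φ - cY • 𝟙 M) ≫ πY = 0 := by
    rw [Preadditive.sub_comp, ← hφY, hcY', Linear.smul_comp, Linear.comp_smul, Category.id_comp,
      Category.comp_id, sub_self]
  have hZ0 : (φ - cZ • 𝟙 M) ≫ πZ = 0 := by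
    rw [Preadditive.sub_comp, ← hφZ, hcZ', Linear.smul_comp, Linear.comp_smul, Category.id_comp,
      Category.comp_id, sub_self]
  -- the scalars agree
  have hc : cY = cZ := by
    by_contra hne
    have hδ : cZ - cY ≠ 0 := sub_ne_zero.mpr (Ne.symm hne)
    obtain ⟨C, hC, hCYZ⟩ := hmeet
    obtain ⟨η, hη⟩ := QuasiSober.sober hC.1 (isClosed_of_mem_irreducibleComponents C hC)
    have hηg : η ∈ genericPoints X := by
      change closure ({η} : Set X) ∈ irreducibleComponents X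
      rw [hη.def]; exact hC
    have hηC : η ∈ C := by rw [← hη.def]; exact subset_closure rfl
    have hηY : η ∈ Y := (hCYZ hηC).1
    have hηZ : η ∈ Z := (hCYZ hηC).2
    let ψ : M ⟶ M := (cZ - cY)⁻¹ • (φ - cY • 𝟙 M)
    have hψY : ψ ≫ πY = 0 := by
      rw [Linear.smul_comp, hY0, smul_zero]
    have hψZ : ψ ≫ πZ = πZ := by
      have e : φ - cY • 𝟙 M = (φ - cZ • 𝟙 M) + (cZ - cY) • 𝟙 M := by
        rw [sub_smul]; abel
      rw [Linear.smul_comp, e, Preadditive.add_comp, hZ0, zero_add, Linear.smul_comp,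
        Category.id_comp, smul_smul, inv_mul_cancel₀ hδ, one_smul]
    obtain ⟨e⟩ := hM.2.2 η hηg
    have hall : ∀ m : M.presheaf.stalk η, m = 0 := by
      intro m
      apply quot_injective hM hGZ hηg hηZ
      rw [sf_map_zero]
      have h1 : stalkFun ψ η m = 0 := by
        apply quot_injective hM hGY hηg hηY
        rw [← sf_comp, hψY, sf_zero, sf_map_zero]
      have h2 : stalkFun πZ η m = stalkFun πZ η (stalkFun ψ η m) := by
        rw [← sf_comp, hψZ]
      rw [h2, h1, sf_map_zero]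
    have h10 : (1 : X.presheaf.stalk η) = 0 := by
      have := hall (e.symm 1)
      have h' := congrArg e this
      rwa [LinearEquiv.apply_symm_apply, map_zero] at h'
    exact one_ne_zero h10
  subst hc
  refine ⟨cY, ?_⟩
  have h0 : φ - cY • 𝟙 M = 0 :=
    eq_zero_of_comp_quot hM hcov hGY hGZ hM.1.1 _ hY0 hZ0
  rw [← KLin.smul_id]
  exact sub_eq_zero.mp h0

end Simple

end Groth.Agent.H5.TFQ
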