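import Mathlib
import Groth.Prelude.Def_VecSt
import Groth.Prelude.Def_KLin
import Groth.Prelude.Def_CurvBase
import Groth.Agent.Lib.Helper5.TFQ.Simple

/-!
# Endomorphisms of a torsion-free rank one sheaf act on generic stalks by scalars
-/

set_option autoImplicit false
set_option linter.style.haveILetI false
universe u
open CategoryTheory CategoryTheory.Limits AlgebraicGeometry TopologicalSpace Opposite

namespace Groth.Agent.H5.TFQ

open Groth.Agent.LD Groth.Agent.LD.QC Groth.Agent.H5.Dec Groth.Agent.H5.Snap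

attribute [-instance] Groth.Agent.LD.QC.stalkModule

variable {X : Scheme.{u}}

theorem sf_id {A : X.Modules} (x : X) (a : A.presheaf.stalk x) : stalkFun (𝟙 A) x a = a := by
  obtain ⟨U, hx, s, rfl⟩ := TopCat.Presheaf.exists_germ_eq A.presheaf a
  rw [sf_germ]
  rfl

theorem sf_add {A B : X.Modules} (f g : A ⟶ B) (x : X) (a : A.presheaf.stalk x) :
    stalkFun (f + g) x a = stalkFun f x a + stalkFun g x a := by
  obtain ⟨U, hx, s, rfl⟩ := TopCat.Presheaf.exists_germ_eq A.presheaf a
  rw [sf_germ, sf_germ, sf_germ]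
  exact map_add (B.presheaf.germ U x hx).hom (f.app U s) (g.app U s)

theorem sf_map_add {A B : X.Modules} (f : A ⟶ B) (x : X) (a b : A.presheaf.stalk x) :
    stalkFun f x (a + b) = stalkFun f x a + stalkFun f x b :=
  map_add ((TopCat.Presheaf.stalkFunctor _ x).map f.mapPresheaf).hom a b

section Scalars

variable (k : Type u) [Field k] [X.Over (Spec (CommRingCat.of k))]

theorem sf_smulMod (M : X.Modules) (c : k) (x : X) (v : M.presheaf.stalk x) :
    stalkFun (Formal.smulMod k M c) x v = Curv2.stalkMap k X x c • v := by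
  obtain ⟨U, hx, s, rfl⟩ := TopCat.Presheaf.exists_germ_eq M.presheaf v
  rw [sf_germ]
  have h1 : (Formal.smulMod k M c).app U s =
      X.presheaf.map (homOfLE (le_top : U ≤ ⊤)).op
        (Coh.toGlobal (X ↘ Spec (CommRingCat.of k)) c) • s :=
    KLin.smulModΓ_app_apply M _ U s
  rw [h1, Mero.germ_smul]
  congr 1
  exact TopCat.Presheaf.germ_res_apply X.presheaf (homOfLE (le_top : U ≤ ⊤)) x hx _

end Scalars

section GenScalar

variable (k : Type u) [Field k] [X.Over (Spec (CommRingCat.of k))] {M : X.Modules} {η : X}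
  (e : M.presheaf.stalk η ≃ₗ[X.presheaf.stalk η] X.presheaf.stalk η)

/-- the scalar by which an endomorphism acts on a stalk which is free of rank one. -/
noncomputable def genScalarFun (ψ : M ⟶ M) : X.presheaf.stalk η :=
  e (stalkFun ψ η (e.symm 1))

theorem sf_eq_smul (ψ : M ⟶ M) (v : M.presheaf.stalk η) :
    stalkFun ψ η v = genScalarFun e ψ • v := by
  have hv : v = e v • e.symm 1 := by
    apply e.injective
    rw [map_smul, LinearEquiv.apply_symm_apply, smul_eq_mul, mul_one]
  have hu : stalkFun ψ η (e.symm 1) = genScalarFun e ψ • e.symm 1 := by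
    apply e.injective
    rw [map_smul, LinearEquiv.apply_symm_apply, smul_eq_mul, mul_one]
    rfl
  rw [hv, stalkMap_smul, hu, smul_comm]

theorem genScalar_unique (ψ : M ⟶ M) (a : X.presheaf.stalk η)
    (h : ∀ v, stalkFun ψ η v = a • v) : genScalarFun e ψ = a := by
  unfold genScalarFun
  rw [h, map_smul, LinearEquiv.apply_symm_apply, smul_eq_mul, mul_one]

attribute [local instance] Curv2.stalkAlgebra

/-- the generic scalar as an algebra homomorphism. -/
noncomputable def genScalar : End M →ₐ[k] X.presheaf.stalk η where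
  toFun ψ := genScalarFun e ψ
  map_one' := by
    apply genScalar_unique
    intro v
    rw [one_smul]
    exact sf_id η v
  map_mul' ψ₁ ψ₂ := by
    apply genScalar_unique
    intro v
    have : (ψ₁ * ψ₂ : End M) = (ψ₂ : M ⟶ M) ≫ (ψ₁ : M ⟶ M) := rfl
    rw [this, sf_comp, sf_eq_smul e ψ₂, stalkMap_smul, sf_eq_smul e ψ₁, ← mul_smul, mul_comm]
  map_zero' := by
    apply genScalar_unique
    intro v
    rw [zero_smul]
    exact sf_zero η v
  map_add' ψ₁ ψ₂ := by
    apply genScalar_unique
    intro v
    have : stalkFun ((ψ₁ + ψ₂ : End M) : M ⟶ M) η v =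
        stalkFun (ψ₁ : M ⟶ M) η v + stalkFun (ψ₂ : M ⟶ M) η v := sf_add _ _ η v
    rw [this, sf_eq_smul e ψ₁, sf_eq_smul e ψ₂, add_smul]
  commutes' c := by
    apply genScalar_unique
    intro v
    have h1 : (algebraMap k (End M) c : M ⟶ M) = Formal.smulMod k M c := by
      rw [Algebra.algebraMap_eq_smul_one]
      exact KLin.smul_id M c
    rw [h1, sf_smulMod]
    rfl

theorem genScalar_apply (ψ : End M) : genScalar k e ψ = genScalarFun e ψ := rfl

theorem sf_eq_genScalar_smul (ψ : End M) (v : M.presheaf.stalk η) :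
    stalkFun (ψ : M ⟶ M) η v = genScalar k e ψ • v := sf_eq_smul e ψ v

end GenScalar

end Groth.Agent.H5.TFQ
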