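import Mathlib
import Groth.Agent.Lib.Helper5.TFQ.End1
import Groth.Agent.Lib.Helper1.CohLen
import Groth.Agent.Lib.Lead.CohLES.H0

/-!
# Generically injective endomorphisms of torsion-free coherent sheaves on proper curves
-/

set_option autoImplicit false
set_option linter.style.haveILetI false
universe u
open CategoryTheory CategoryTheory.Limits AlgebraicGeometry TopologicalSpace Opposite

namespace Groth.Agent.H5.TFQ

open Groth.Agent.LD Groth.Agent.LD.QC Groth.Agent.H5.Dec Groth.Agent.H5.Snap

attribute [-instance] Groth.Agent.LD.QC.stalkModule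

variable {X : Scheme.{u}}

variable (k : Type u) [Field k] [X.Over (Spec (CommRingCat.of k))]
  [IsProper (X ↘ Spec (CommRingCat.of k))]

/-- a coherent module with zero generic stalks and zero Euler characteristic on a proper scheme
of pure dimension one is zero. -/
theorem isZero_of_generic_zero_of_euler
    (hpure : ∀ C ∈ irreducibleComponents (X : Type u), topologicalKrullDim C = 1)
    (T : X.Modules) (hT : Coh.IsCoh T)
    (h : ∀ η ∈ genericPoints X, Subsingleton (T.presheaf.stalk η))
    (hχ : Curv2.euler k X T = 0) : IsZero T := by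
  haveI := isLocallyNoetherian_of_proper (X := X) k
  have hpt : ∀ x : X, ¬ Subsingleton (T.presheaf.stalk x) → IsClosed ({x} : Set X) := by
    intro x hx
    apply isClosed_singleton_of_not_generic hpure
    intro hg
    exact hx (h x hg)
  have hvan : ∀ p, 0 < p → Subsingleton (Coh.HH X T p) := by
    intro p hp
    obtain ⟨q, rfl⟩ : ∃ q, p = q + 1 := ⟨p - 1, by omega⟩
    exact Groth.Agent.LD.SC.subsingleton_HH_of_support_closed_points T
      (isClosed_support_of_isCoh hT) hpt q
  rw [Groth.Agent.LD.Curve.euler_eq_sum k X T 0 hvan] at hχ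
  simp at hχ
  haveI := Groth.Agent.LD.Curve.finite_HH k X T hT 0
  haveI : Subsingleton (Coh.HH X T 0) := Module.finrank_zero_iff.mp hχ
  haveI : Subsingleton Γ(T, ⊤) := (CL.HH0Equiv T).symm.subsingleton
  haveI hfl := Groth.Agent.LD.SC.isFlasque_of_support_closed_points T
    (isClosed_support_of_isCoh hT) hpt
  rw [isZero_iff_subsingleton_stalks]
  intro x
  apply subsingleton_of_forall_eq_zero
  intro g
  obtain ⟨U, hxU, s, rfl⟩ := TopCat.Presheaf.exists_germ_eq T.presheaf g
  have hepi := hfl.epi (homOfLE (le_top : U ≤ ⊤)).op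
  rw [AddCommGrpCat.epi_iff_surjective] at hepi
  obtain ⟨t, ht⟩ := hepi s
  have ht0 : t = 0 := @Subsingleton.elim Γ(T, ⊤) _ t 0
  have hs0 : s = 0 := by
    rw [← ht, ht0]
    exact map_zero ((Coh.toAb T).obj.map (homOfLE (le_top : U ≤ ⊤)).op).hom
  rw [hs0]
  exact map_zero (T.presheaf.germ U x hxU).hom

end Groth.Agent.H5.TFQ

namespace Groth.Agent.H5.TFQ

open Groth.Agent.LD Groth.Agent.LD.QC Groth.Agent.H5.Dec Groth.Agent.H5.Snap

attribute [-instance] Groth.Agent.LD.QC.stalkModule

variable {X : Scheme.{u}}

variable (k : Type u) [Field k] [X.Over (Spec (CommRingCat.of k))]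
  [IsProper (X ↘ Spec (CommRingCat.of k))] [IsReduced X]

/-- stalks of coherent modules are finite (with the prelude's module structure). -/
theorem finite_stalk' (G : X.Modules) (hG : Coh.IsCoh G) (x : X) :
    Module.Finite (X.presheaf.stalk x) (G.presheaf.stalk x) := by
  haveI := hG.1
  exact Groth.Agent.H1.CohLen.finite_stalk G hG.2 x

include k in
/-- an endomorphism of a torsion-free coherent sheaf on a reduced proper curve which is injective
on the generic stalks is an isomorphism. -/
theorem isIso_of_generic_injective
    (hpure : ∀ C ∈ irreducibleComponents (X : Type u), topologicalKrullDim C = 1)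
    (G : X.Modules) (hG : Coh.IsCoh G) (htf : TorSh.IsTorsionFree G) (g : G ⟶ G)
    (hinj : ∀ η ∈ genericPoints X, Function.Injective (stalkFun g η)) : IsIso g := by
  haveI := isLocallyNoetherian_of_proper (X := X) k
  haveI : Mono g := by
    apply Preadditive.mono_of_kernel_zero
    apply eq_zero_of_generic (qc_kernel g hG.1 hG.1) hG htf
    intro η hη a
    apply hinj η hη
    rw [← sf_comp, kernel.condition, sf_zero, sf_map_zero]
  have hTc : Coh.IsCoh (cokernel g) := isCoh_cokernel g hG hG
  have hTgen : ∀ η ∈ genericPoints X, Subsingleton ((cokernel g).presheaf.stalk η) := by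
    intro η hη
    have hF := isField_stalk_of_mem_genericPoints hη
    letI : Field (X.presheaf.stalk η) := hF.toField
    haveI : Module.Finite (X.presheaf.stalk η) (G.presheaf.stalk η) := finite_stalk' G hG η
    have hsurj : Function.Surjective (RefHull.stalkMapₗ g η) :=
      LinearMap.surjective_of_injective (f := RefHull.stalkMapₗ g η) (hinj η hη)
    apply subsingleton_of_forall_eq_zero
    intro q
    obtain ⟨m, rfl⟩ := sf_surjective (cokernel.π g) η q
    obtain ⟨m', rfl⟩ := hsurj m
    have : stalkFun (cokernel.π g) η (stalkFun g η m') = 0 := by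
      rw [← sf_comp, cokernel.condition, sf_zero]
    exact this
  have e1 := Groth.Agent.LD.Curve.euler_add k X _ (shortExact_cokernel g) hG hG hTc
  simp only at e1
  have hχ : Curv2.euler k X (cokernel g) = 0 := by linarith
  have hT0 := isZero_of_generic_zero_of_euler k hpure (cokernel g) hTc hTgen hχ
  haveI : Epi g := Preadditive.epi_of_isZero_cokernel g hT0
  exact isIso_of_mono_of_epi g

end Groth.Agent.H5.TFQ
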