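import Mathlib
import Groth.Agent.Lib.Helper5.TFQ.Iso1
import Groth.Agent.Lib.Helper5.TFQ.FibAlg
import Groth.Agent.Lib.Helper5.TameSep.TsB

/-!
# Endomorphisms of a coherent sheaf act on the fibres at closed points
-/

set_option autoImplicit false
set_option linter.style.haveILetI false
universe u
open CategoryTheory CategoryTheory.Limits AlgebraicGeometry TopologicalSpace Opposite

namespace Groth.Agent.H5.TFQ

open Groth.Agent.LD Groth.Agent.LD.QC Groth.Agent.H5.Dec Groth.Agent.H5.Snap
open Groth.Agent.H5.TFQ.FibAlg IsLocalRing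

attribute [-instance] Groth.Agent.LD.QC.stalkModule

variable {X : Scheme.{u}} (k : Type u) [Field k] [X.Over (Spec (CommRingCat.of k))]

attribute [local instance] Curv2.stalkAlgebra

/-- the `k`-module structure on the stalks of a module. -/
noncomputable local instance stalkKModule (M : X.Modules) (x : X) :
    Module k (M.presheaf.stalk x) :=
  Module.compHom (M.presheaf.stalk x) (Curv2.stalkMap k X x)

local instance (M : X.Modules) (x : X) :
    IsScalarTower k (X.presheaf.stalk x) (M.presheaf.stalk x) :=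
  ⟨fun c r n => by
    change (c • r) • n = (Curv2.stalkMap k X x c) • (r • n)
    rw [Algebra.smul_def, mul_smul]
    rfl⟩

/-- the action of the endomorphisms on the fibre at a point. -/
noncomputable def fibAct (M : X.Modules) (x : X) :
    End M →ₐ[k] Module.End k (Fib (X.presheaf.stalk x) (M.presheaf.stalk x)) where
  toFun ψ := fibMap k _ _ (RefHull.stalkMapₗ ψ x)
  map_one' := by
    apply LinearMap.ext
    intro v
    obtain ⟨n, rfl⟩ := Submodule.Quotient.mk_surjective _ v
    rw [fibMap_mk]
    exact congrArg _ (DefoSh.stalkMapₗ_id_apply x n)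
  map_mul' ψ₁ ψ₂ := by
    apply LinearMap.ext
    intro v
    obtain ⟨n, rfl⟩ := Submodule.Quotient.mk_surjective _ v
    rw [Module.End.mul_apply, fibMap_mk, fibMap_mk, fibMap_mk]
    exact congrArg _ (DefoSh.stalkMapₗ_comp_apply x (ψ₂ : M ⟶ M) (ψ₁ : M ⟶ M) n)
  map_zero' := by
    apply LinearMap.ext
    intro v
    obtain ⟨n, rfl⟩ := Submodule.Quotient.mk_surjective _ v
    rw [fibMap_mk, LinearMap.zero_apply]
    have : RefHull.stalkMapₗ ((0 : End M) : M ⟶ M) x n = 0 := DefoSh.stalkMapₗ_zero_apply x n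
    rw [this]
    rfl
  map_add' ψ₁ ψ₂ := by
    apply LinearMap.ext
    intro v
    obtain ⟨n, rfl⟩ := Submodule.Quotient.mk_surjective _ v
    rw [LinearMap.add_apply, fibMap_mk, fibMap_mk, fibMap_mk]
    have : RefHull.stalkMapₗ ((ψ₁ + ψ₂ : End M) : M ⟶ M) x n =
        RefHull.stalkMapₗ (ψ₁ : M ⟶ M) x n + RefHull.stalkMapₗ (ψ₂ : M ⟶ M) x n :=
      DefoSh.stalkMapₗ_add_apply x _ _ n
    rw [this]
    rfl
  commutes' c := by
    apply LinearMap.ext
    intro v
    obtain ⟨n, rfl⟩ := Submodule.Quotient.mk_surjective _ v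
    rw [fibMap_mk]
    have h1 : (algebraMap k (End M) c : M ⟶ M) = Formal.smulMod k M c := by
      rw [Algebra.algebraMap_eq_smul_one]
      exact KLin.smul_id M c
    have h2 : RefHull.stalkMapₗ (algebraMap k (End M) c : M ⟶ M) x n =
        Curv2.stalkMap k X x c • n := by
      rw [h1]
      exact sf_smulMod k M c x n
    rw [h2]
    rfl

theorem fibAct_apply (M : X.Modules) (x : X) (ψ : End M) :
    fibAct k M x ψ = fibMap k _ _ (RefHull.stalkMapₗ (ψ : M ⟶ M) x) := rfl

variable [IsProper (X ↘ Spec (CommRingCat.of k))]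

theorem finite_residue (x : X) (hx : IsClosed ({x} : Set X)) :
    Module.Finite k (X.presheaf.stalk x ⧸ maximalIdeal (X.presheaf.stalk x)) := by
  have h := Groth.Agent.H5.TameSep.finite_residueField_of_isClosed k X x hx
  have e : Curv2.resAlgebra k X x =
      (Ideal.Quotient.algebra k :
        Algebra k (X.presheaf.stalk x ⧸ maximalIdeal (X.presheaf.stalk x))) :=
    Algebra.algebra_ext _ _ (fun r => rfl)
  rw [e] at h
  exact h

/-- every endomorphism of a coherent module is killed on the fibre at a closed point by a monic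
polynomial. -/
theorem exists_monic_fiber (M : X.Modules) (hM : Coh.IsCoh M) (x : X)
    (hx : IsClosed ({x} : Set X)) (φ : End M) :
    ∃ p : Polynomial k, p.Monic ∧ ∀ n : M.presheaf.stalk x,
      stalkFun (Polynomial.aeval φ p : M ⟶ M) x n ∈
        maximalIdeal (X.presheaf.stalk x) • (⊤ : Submodule (X.presheaf.stalk x) _) := by
  haveI := finite_residue k x hx
  haveI : Module.Finite (X.presheaf.stalk x) (M.presheaf.stalk x) := by
    haveI := hM.1
    exact Groth.Agent.H1.CohLen.finite_stalk M hM.2 x
  haveI : Module.Finite k (Fib (X.presheaf.stalk x) (M.presheaf.stalk x)) :=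
    finite_fib k (X.presheaf.stalk x) (M.presheaf.stalk x)
  obtain ⟨p, hp, hp0⟩ := exists_monic_map_aeval_eq_zero k (fibAct k M x) φ
  refine ⟨p, hp, fun n => ?_⟩
  rw [fibAct_apply] at hp0
  exact mem_of_fibMap_eq_zero k _ _ _ hp0 n

end Groth.Agent.H5.TFQ
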