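import Mathlib
import Groth.Agent.Lib.Helper5.TFQ.Fib

/-!
# Endomorphisms of torsion-free rank one sheaves on proper reduced curves are algebraic
-/

set_option autoImplicit false
set_option linter.style.haveILetI false
universe u
open CategoryTheory CategoryTheory.Limits AlgebraicGeometry TopologicalSpace Opposite

namespace Groth.Agent.H5.TFQ

open Groth.Agent.LD Groth.Agent.LD.QC Groth.Agent.H5.Dec Groth.Agent.H5.Snap
open Groth.Agent.H5.TFQ.FibAlg IsLocalRing

attribute [-instance] Groth.Agent.LD.QC.stalkModule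

variable {X : Scheme.{u}} (k : Type u) [Field k] [X.Over (Spec (CommRingCat.of k))]
  [IsProper (X ↘ Spec (CommRingCat.of k))] [IsReduced X]

theorem stalkMapₗ_mem_smul_top {A B : X.Modules} (f : A ⟶ B) (x : X) (v : A.presheaf.stalk x)
    (hv : v ∈ maximalIdeal (X.presheaf.stalk x) • (⊤ : Submodule (X.presheaf.stalk x) _)) :
    stalkFun f x v ∈ maximalIdeal (X.presheaf.stalk x) • (⊤ : Submodule (X.presheaf.stalk x) _) := by
  have h1 : RefHull.stalkMapₗ f x v ∈ Submodule.map (RefHull.stalkMapₗ f x)
      (maximalIdeal (X.presheaf.stalk x) • (⊤ : Submodule (X.presheaf.stalk x) _)) :=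
    Submodule.mem_map_of_mem hv
  rw [Submodule.map_smul''] at h1
  exact Submodule.smul_mono le_rfl le_top h1

include k in
/-- an endomorphism of a torsion-free rank one sheaf whose image at a closed point of every
component lies in `𝔪` times the stalk is zero. -/
theorem eq_zero_of_fiber_small
    (hpure : ∀ C ∈ irreducibleComponents (X : Type u), topologicalKrullDim C = 1)
    (I : X.Modules) (hI : TFOne.IsTF1 X I) (ψ : I ⟶ I)
    (h : ∀ η ∈ genericPoints X, ∃ x : X, IsClosed ({x} : Set X) ∧ x ∈ closure ({η} : Set X) ∧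
      ∀ n : I.presheaf.stalk x, stalkFun ψ x n ∈
        maximalIdeal (X.presheaf.stalk x) • (⊤ : Submodule (X.presheaf.stalk x) _)) :
    ψ = 0 := by
  haveI := isLocallyNoetherian_of_proper (X := X) k
  obtain ⟨ι, hι⟩ : ∃ ι : Abelian.image ψ ⟶ I, ι = Abelian.image.ι ψ := ⟨_, rfl⟩
  obtain ⟨π, hπ⟩ : ∃ π : I ⟶ Abelian.image ψ, π = Abelian.factorThruImage ψ := ⟨_, rfl⟩
  haveI : Mono ι := by rw [hι]; infer_instance
  haveI : Epi π := by rw [hπ]; infer_instance
  have hfac : π ≫ ι = ψ := by rw [hι, hπ]; exact Abelian.image.fac ψ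
  have hJq : (Abelian.image ψ).IsQuasicoherent :=
    qc_kernel _ hI.1.1 (qc_cokernel ψ hI.1.1 hI.1.1)
  have hJc : Coh.IsCoh (Abelian.image ψ) := isCoh_of_mono ι hJq hI.1
  have hJtf : TorSh.IsTorsionFree (Abelian.image ψ) := isTorsionFree_of_mono ι hI.2.1
  -- `ι ≫ π` is injective on the generic stalks
  have hg : ∀ η ∈ genericPoints X, Function.Injective (stalkFun (ι ≫ π) η) := by
    intro η hη
    obtain ⟨e⟩ := hI.2.2 η hη
    have hF := isField_stalk_of_mem_genericPoints hη
    have hzero : ∀ j, stalkFun (ι ≫ π) η j = 0 → j = 0 := by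
      intro j hj
      obtain ⟨m, rfl⟩ := sf_surjective π η j
      have h1 : stalkFun ψ η (stalkFun ψ η m) = 0 := by
        have : stalkFun ι η (stalkFun (ι ≫ π) η (stalkFun π η m)) = 0 := by
          rw [hj, sf_map_zero]
        rw [sf_comp, ← sf_comp π ι, hfac, ← sf_comp π ι, hfac] at this
        exact this
      have h2 : stalkFun ψ η m = 0 := by
        rw [sf_eq_smul e ψ, sf_eq_smul e ψ] at h1
        by_cases ha : genScalarFun e ψ = 0
        · rw [sf_eq_smul e ψ, ha, zero_smul]
        · obtain ⟨b, hb⟩ := hF.mul_inv_cancel ha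
          have : m = 0 := by
            have h3 := congrArg (fun z => b • b • z) h1
            simp only [smul_zero] at h3
            rw [← mul_smul, ← mul_smul, ← mul_smul] at h3
            have h4 : b * (b * (genScalarFun e ψ * genScalarFun e ψ)) = 1 := by
              have : b * (b * (genScalarFun e ψ * genScalarFun e ψ)) =
                  (genScalarFun e ψ * b) * (genScalarFun e ψ * b) := by ring
              rw [this, hb, mul_one]
            have h5 : b * b * genScalarFun e ψ * genScalarFun e ψ =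
                b * (b * (genScalarFun e ψ * genScalarFun e ψ)) := by ring
            rw [h5, h4, one_smul] at h3
            exact h3
          rw [this, sf_map_zero]
      apply sf_injective ι η
      rw [← sf_comp, hfac, h2, sf_map_zero]
    intro j₁ j₂ h12
    have hsub : stalkFun (ι ≫ π) η (j₁ - j₂) = 0 := by
      have := map_sub (RefHull.stalkMapₗ (ι ≫ π) η) j₁ j₂
      have h' : stalkFun (ι ≫ π) η (j₁ - j₂) =
          stalkFun (ι ≫ π) η j₁ - stalkFun (ι ≫ π) η j₂ := this
      rw [h', h12, sub_self]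
    exact sub_eq_zero.mp (hzero _ hsub)
  haveI hgiso : IsIso (ι ≫ π) :=
    isIso_of_generic_injective k hpure (Abelian.image ψ) hJc hJtf (ι ≫ π) hg
  apply eq_zero_of_generic hI.1.1 hI.1 hI.2.1
  intro η hη m
  obtain ⟨x, hxcl, hxη, hx⟩ := h η hη
  haveI : Module.Finite (X.presheaf.stalk x) (I.presheaf.stalk x) := by
    haveI := hI.1.1
    exact Groth.Agent.H1.CohLen.finite_stalk I hI.1.2 x
  have hle : LinearMap.range (RefHull.stalkMapₗ ψ x) ≤
      maximalIdeal (X.presheaf.stalk x) • LinearMap.range (RefHull.stalkMapₗ ψ x) := by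
    rintro _ ⟨m₀, rfl⟩
    obtain ⟨j', hj'⟩ := sf_surjective (ι ≫ π) x (stalkFun π x m₀)
    obtain ⟨m', rfl⟩ := sf_surjective π x j'
    have h1 : stalkFun ψ x m₀ = stalkFun ψ x (stalkFun ψ x m') := by
      have h2 : stalkFun ι x (stalkFun π x m₀) = stalkFun ψ x m₀ := by rw [← sf_comp, hfac]
      rw [← h2, ← hj', sf_comp, ← sf_comp π ι, hfac, ← sf_comp π ι, hfac]
    have h3 : stalkFun ψ x (stalkFun ψ x m') ∈ Submodule.map (RefHull.stalkMapₗ ψ x)
        (maximalIdeal (X.presheaf.stalk x) • (⊤ : Submodule (X.presheaf.stalk x) _)) :=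
      Submodule.mem_map_of_mem (hx m')
    rw [Submodule.map_smul'', ← LinearMap.range_eq_map] at h3
    change stalkFun ψ x m₀ ∈ _
    rw [h1]
    exact h3
  have hbot := range_eq_bot_of_le_smul (X.presheaf.stalk x) (I.presheaf.stalk x) _ hle
  have hfx : ∀ n, stalkFun ψ x n = 0 := by
    intro n
    have h1 : RefHull.stalkMapₗ ψ x n ∈ LinearMap.range (RefHull.stalkMapₗ ψ x) := ⟨n, rfl⟩
    rw [hbot] at h1
    exact (Submodule.mem_bot _).mp h1
  have hJx : x ∉ CohB1.support (Abelian.image ψ) := by
    intro hxs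
    apply hxs
    apply subsingleton_of_forall_eq_zero
    intro j
    obtain ⟨n, rfl⟩ := sf_surjective π x j
    apply sf_injective ι x
    rw [← sf_comp, hfac, hfx, sf_map_zero]
  have hJη : η ∉ CohB1.support (Abelian.image ψ) := by
    intro hηs
    exact hJx (closure_minimal (Set.singleton_subset_iff.mpr hηs)
      (isClosed_support_of_isCoh hJc) hxη)
  have hsub : Subsingleton ((Abelian.image ψ).presheaf.stalk η) := not_not.mp hJη
  rw [← hfac, sf_comp, Subsingleton.elim (stalkFun π η m) 0, sf_map_zero]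

end Groth.Agent.H5.TFQ

namespace Groth.Agent.H5.TFQ

open Groth.Agent.LD Groth.Agent.LD.QC Groth.Agent.H5.Dec Groth.Agent.H5.Snap
open Groth.Agent.H5.TFQ.FibAlg IsLocalRing

attribute [-instance] Groth.Agent.LD.QC.stalkModule

variable {X : Scheme.{u}} (k : Type u) [Field k] [X.Over (Spec (CommRingCat.of k))]
  [IsProper (X ↘ Spec (CommRingCat.of k))] [IsReduced X]

include k in
theorem finite_genericPoints : (genericPoints X).Finite := by
  haveI := Groth.Agent.LD.Curve.isLocallyNoetherian k X
  haveI := Groth.Agent.LD.Curve.compactSpace k X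
  haveI : IsNoetherian X := { }
  exact genericPoints.finite NoetherianSpace.finite_irreducibleComponents

/-- every endomorphism of a torsion-free rank one sheaf on a reduced proper curve is algebraic
over the base field. -/
theorem exists_poly_aeval_eq_zero
    (hpure : ∀ C ∈ irreducibleComponents (X : Type u), topologicalKrullDim C = 1)
    (I : X.Modules) (hI : TFOne.IsTF1 X I) (φ : End I) :
    ∃ p : Polynomial k, p ≠ 0 ∧ Polynomial.aeval φ p = 0 := by
  classical
  haveI := Groth.Agent.LD.Curve.compactSpace k X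
  have hfin := finite_genericPoints (X := X) k
  have hcl : ∀ η : X, ∃ x : X, x ∈ closure ({η} : Set X) ∧ IsClosed ({x} : Set X) :=
    fun η => IsClosed.exists_closed_singleton isClosed_closure ⟨η, subset_closure rfl⟩
  choose xc hxc1 hxc2 using hcl
  have hp := fun η : X => exists_monic_fiber k I hI.1 (xc η) (hxc2 η) φ
  choose p hpm hpf using hp
  refine ⟨∏ η ∈ hfin.toFinset, p η, ?_, ?_⟩
  · exact (Polynomial.monic_prod_of_monic _ _ (fun η _ => hpm η)).ne_zero
  · apply eq_zero_of_fiber_small k hpure I hI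
    intro η hη
    refine ⟨xc η, hxc2 η, hxc1 η, fun n => ?_⟩
    have hmem : η ∈ hfin.toFinset := hfin.mem_toFinset.mpr hη
    have hprod : ∏ η' ∈ hfin.toFinset, p η' = (∏ η' ∈ hfin.toFinset.erase η, p η') * p η :=
      (Finset.prod_erase_mul _ _ hmem).symm
    have h1 : (Polynomial.aeval φ (∏ η' ∈ hfin.toFinset, p η') : I ⟶ I) =
        (Polynomial.aeval φ (p η) : I ⟶ I) ≫
          (Polynomial.aeval φ (∏ η' ∈ hfin.toFinset.erase η, p η') : I ⟶ I) := by
      rw [hprod, map_mul]
      rfl
    rw [h1, sf_comp]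
    exact stalkMapₗ_mem_smul_top _ _ _ (hpf η n)

end Groth.Agent.H5.TFQ
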