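import Mathlib
import Groth.Agent.Lib.Helper5.TFQ.Alg1

/-!
# Supports of torsion-free coherent sheaves are unions of components; idempotents decompose
-/

set_option autoImplicit false
set_option linter.style.haveILetI false
universe u
open CategoryTheory CategoryTheory.Limits AlgebraicGeometry TopologicalSpace Opposite

namespace Groth.Agent.H5.TFQ

open Groth.Agent.LD Groth.Agent.LD.QC Groth.Agent.H5.Dec Groth.Agent.H5.Snap

attribute [-instance] Groth.Agent.LD.QC.stalkModule

variable {X : Scheme.{u}}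

/-- every point of the support of a torsion-free quasi-coherent module is a specialization of a
generic point of the support. -/
theorem exists_generic_specializes [IsLocallyNoetherian X] [IsReduced X] (F : X.Modules)
    [F.IsQuasicoherent] (htf : TorSh.IsTorsionFree F) (y : X) (hy : y ∈ CohB1.support F) :
    ∃ η ∈ genericPoints X, η ∈ CohB1.support F ∧ y ∈ closure ({η} : Set X) := by
  have hnt : Nontrivial (F.presheaf.stalk y) := not_subsingleton_iff_nontrivial.mp hy
  obtain ⟨x, hxy, hx⟩ := Groth.Agent.H3.AssSupp.exists_ass_generization F y hnt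
  haveI := htf x
  have hdim : ringKrullDim (X.presheaf.stalk x) = 0 :=
    ringKrullDim_eq_zero_of_isAssociatedPrime hx
  refine ⟨x, Groth.Agent.H1.GenPts.closure_mem_irreducibleComponents_of_stalk_dim_eq_zero x hdim,
    ?_, hxy.mem_closure⟩
  have := Groth.Agent.H3.AssSupp.nontrivial_stalk_of_isAssPoint F x hx
  exact not_subsingleton_iff_nontrivial.mpr this

/-- the support of a nonzero torsion-free coherent module is a subcurve. -/
theorem isSubcurve_support [IsLocallyNoetherian X] [IsReduced X] (F : X.Modules)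
    (hF : Coh.IsCoh F) (htf : TorSh.IsTorsionFree F) (h0 : ¬ IsZero F) :
    VecSt.IsSubcurve X (CohB1.support F) := by
  haveI := hF.1
  have hcl := isClosed_support_of_isCoh hF
  refine ⟨{C | C ∈ irreducibleComponents (X : Type u) ∧ C ⊆ CohB1.support F},
    fun C hC => hC.1, ?_, ?_⟩
  · obtain ⟨Z, hZ, hZF⟩ := exists_component_subset_support F hcl htf h0
    exact ⟨Z, hZ, hZF⟩
  · apply Set.Subset.antisymm
    · intro y hy
      obtain ⟨η, hη, hηF, hyη⟩ := exists_generic_specializes F htf y hy
      refine ⟨closure {η}, ⟨hη, ?_⟩, hyη⟩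
      exact closure_minimal (Set.singleton_subset_iff.mpr hηF) hcl
    · rintro y ⟨C, ⟨-, hCF⟩, hyC⟩
      exact hCF hyC

end Groth.Agent.H5.TFQ

namespace Groth.Agent.H5.TFQ

open Groth.Agent.LD Groth.Agent.LD.QC Groth.Agent.H5.Dec Groth.Agent.H5.Snap

attribute [-instance] Groth.Agent.LD.QC.stalkModule

variable {X : Scheme.{u}}

/-- in a rank one stalk over a field every element is a multiple of a given nonzero one. -/
theorem exists_smul_eq_of_rkOne [IsReduced X] {M : X.Modules} (hM : TFOne.IsRkOne X M) {η : X}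
    (hη : η ∈ genericPoints X) (u m : M.presheaf.stalk η) (hu : u ≠ 0) :
    ∃ r : X.presheaf.stalk η, m = r • u := by
  have hF := isField_stalk_of_mem_genericPoints hη
  obtain ⟨e⟩ := hM η hη
  have hu' : e u ≠ 0 := fun h => hu (e.map_eq_zero_iff.mp h)
  obtain ⟨b, hb⟩ := hF.mul_inv_cancel hu'
  refine ⟨e m * b, ?_⟩
  apply e.injective
  rw [map_smul, smul_eq_mul, mul_assoc, mul_comm b, hb, mul_one]

section Idem

variable {C : Type*} [Category C] [Abelian C] {A : C}

theorem image_ι_comp_factorThru (e : A ⟶ A) (he : e ≫ e = e) :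
    Abelian.image.ι e ≫ Abelian.factorThruImage e = 𝟙 _ := by
  rw [← cancel_epi (Abelian.factorThruImage e), ← cancel_mono (Abelian.image.ι e)]
  simp only [Category.assoc, Category.comp_id, Abelian.image.fac]
  rw [← Category.assoc, Abelian.image.fac, he]

theorem image_ι_comp_factorThru_zero (e e' : A ⟶ A) (h : e ≫ e' = 0) :
    Abelian.image.ι e ≫ Abelian.factorThruImage e' = 0 := by
  rw [← cancel_epi (Abelian.factorThruImage e), ← cancel_mono (Abelian.image.ι e')]
  simp only [Category.assoc, Abelian.image.fac, comp_zero, zero_comp]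
  rw [← Category.assoc, Abelian.image.fac, h]

theorem isIso_lift_of_idempotent (e : A ⟶ A) (he : e ≫ e = e) :
    IsIso (biprod.lift (Abelian.factorThruImage e) (Abelian.factorThruImage (𝟙 A - e))) := by
  have he' : (𝟙 A - e) ≫ (𝟙 A - e) = 𝟙 A - e := by
    rw [Preadditive.sub_comp, Preadditive.comp_sub, Preadditive.comp_sub, Category.id_comp,
      Category.comp_id, Category.id_comp, he]
    abel
  have h12 : e ≫ (𝟙 A - e) = 0 := by
    rw [Preadditive.comp_sub, Category.comp_id, he, sub_self]
  have h21 : (𝟙 A - e) ≫ e = 0 := by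
    rw [Preadditive.sub_comp, Category.id_comp, he, sub_self]
  refine ⟨⟨biprod.desc (Abelian.image.ι e) (Abelian.image.ι (𝟙 A - e)), ?_, ?_⟩⟩
  · rw [biprod.lift_desc, Abelian.image.fac, Abelian.image.fac]
    abel
  · apply biprod.hom_ext'
    · rw [biprod.inl_desc_assoc, Category.comp_id]
      apply biprod.hom_ext
      · rw [Category.assoc, biprod.lift_fst, biprod.inl_fst, image_ι_comp_factorThru e he]
      · rw [Category.assoc, biprod.lift_snd, biprod.inl_snd,
          image_ι_comp_factorThru_zero e (𝟙 A - e) h12]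
    · rw [biprod.inr_desc_assoc, Category.comp_id]
      apply biprod.hom_ext
      · rw [Category.assoc, biprod.lift_fst, biprod.inr_fst,
          image_ι_comp_factorThru_zero (𝟙 A - e) e h21]
      · rw [Category.assoc, biprod.lift_snd, biprod.inr_snd,
          image_ι_comp_factorThru (𝟙 A - e) he']

end Idem

end Groth.Agent.H5.TFQ

namespace Groth.Agent.H5.TFQ

open Groth.Agent.LD Groth.Agent.LD.QC Groth.Agent.H5.Dec Groth.Agent.H5.Snap

attribute [-instance] Groth.Agent.LD.QC.stalkModule

variable {X : Scheme.{u}} [IsLocallyNoetherian X] [IsReduced X]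

theorem not_isZero_image {I : X.Modules} (e : I ⟶ I) (h : e ≠ 0) : ¬ IsZero (Abelian.image e) := by
  intro hz
  apply h
  rw [← Abelian.image.fac e, hz.eq_of_tgt (Abelian.factorThruImage e) 0, zero_comp]

theorem isCoh_image {I : X.Modules} (hI : Coh.IsCoh I) (e : I ⟶ I) :
    Coh.IsCoh (Abelian.image e) :=
  isCoh_of_mono (Abelian.image.ι e) (qc_kernel _ hI.1 (qc_cokernel e hI.1 hI.1)) hI

theorem support_image_ne_univ {I : X.Modules} (hI : TFOne.IsTF1 X I) (e e' : I ⟶ I)
    (h : e ≫ e' = 0) (hne : e' ≠ 0) : CohB1.support (Abelian.image e) ≠ Set.univ := by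
  intro huniv
  apply hne
  apply eq_zero_of_generic hI.1.1 hI.1 hI.2.1
  intro η hη m
  have hηs : η ∈ CohB1.support (Abelian.image e) := by rw [huniv]; trivial
  have hnt : Nontrivial ((Abelian.image e).presheaf.stalk η) :=
    not_subsingleton_iff_nontrivial.mp hηs
  obtain ⟨j, hj⟩ := exists_ne (0 : (Abelian.image e).presheaf.stalk η)
  obtain ⟨m₀, rfl⟩ := sf_surjective (Abelian.factorThruImage e) η j
  have hu : stalkFun e η m₀ ≠ 0 := by
    intro h0
    apply hj
    apply sf_injective (Abelian.image.ι e) η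
    rw [← sf_comp, Abelian.image.fac, h0, sf_map_zero]
  obtain ⟨r, hr⟩ := exists_smul_eq_of_rkOne hI.2.2 hη (stalkFun e η m₀) m hu
  rw [hr, stalkMap_smul, ← sf_comp, h, sf_zero, smul_zero]

/-- a nontrivial idempotent endomorphism of a torsion-free rank one sheaf decomposes it. -/
theorem decomposable_of_idempotent {I : X.Modules} (hI : TFOne.IsTF1 X I) (e : I ⟶ I)
    (he : e ≫ e = e) (h0 : e ≠ 0) (h1 : e ≠ 𝟙 I) :
    ∃ (Y Z : Set X) (_ : IsClosed Y) (_ : IsClosed Z) (GY GZ : X.Modules) (πY : I ⟶ GY)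
      (πZ : I ⟶ GZ), VecSt.IsSubcurve X Y ∧ VecSt.IsSubcurve X Z ∧ Y ≠ Set.univ ∧
        Z ≠ Set.univ ∧ TFOne.IsQuotOn X I Y GY πY ∧ TFOne.IsQuotOn X I Z GZ πZ ∧
        IsIso (biprod.lift πY πZ) := by
  have h12 : e ≫ (𝟙 I - e) = 0 := by
    rw [Preadditive.comp_sub, Category.comp_id, he, sub_self]
  have h21 : (𝟙 I - e) ≫ e = 0 := by
    rw [Preadditive.sub_comp, Category.id_comp, he, sub_self]
  have h1' : 𝟙 I - e ≠ 0 := fun h => h1 (sub_eq_zero.mp h).symm
  have hcY := isCoh_image hI.1 e
  have hcZ := isCoh_image hI.1 (𝟙 I - e)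
  have htY : TorSh.IsTorsionFree (Abelian.image e) :=
    isTorsionFree_of_mono (Abelian.image.ι e) hI.2.1
  have htZ : TorSh.IsTorsionFree (Abelian.image (𝟙 I - e)) :=
    isTorsionFree_of_mono (Abelian.image.ι (𝟙 I - e)) hI.2.1
  refine ⟨CohB1.support (Abelian.image e), CohB1.support (Abelian.image (𝟙 I - e)),
    isClosed_support_of_isCoh hcY, isClosed_support_of_isCoh hcZ, Abelian.image e,
    Abelian.image (𝟙 I - e), Abelian.factorThruImage e, Abelian.factorThruImage (𝟙 I - e),
    isSubcurve_support _ hcY htY (not_isZero_image e h0),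
    isSubcurve_support _ hcZ htZ (not_isZero_image _ h1'),
    support_image_ne_univ hI e (𝟙 I - e) h12 h1',
    support_image_ne_univ hI (𝟙 I - e) e h21 h0,
    ⟨inferInstance, hcY, htY, rfl⟩, ⟨inferInstance, hcZ, htZ, rfl⟩,
    isIso_lift_of_idempotent e he⟩

end Groth.Agent.H5.TFQ
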