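import Mathlib
import Groth.Agent.Lib.Helper5.TFQ.Supp
import Groth.Agent.Lib.Helper5.TFQ.GeoInt2

/-!
# A torsion-free rank one sheaf is simple iff it is not decomposable
-/

set_option autoImplicit false
set_option linter.style.haveILetI false
universe u
open CategoryTheory CategoryTheory.Limits AlgebraicGeometry TopologicalSpace Opposite

namespace Groth.Agent.H5.TFQ

open Groth.Agent.LD Groth.Agent.LD.QC Groth.Agent.H5.Dec Groth.Agent.H5.Snap

attribute [-instance] Groth.Agent.LD.QC.stalkModule

variable {X : Scheme.{u}} (k : Type u) [Field k] [X.Over (Spec (CommRingCat.of k))]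
  [IsProper (X ↘ Spec (CommRingCat.of k))] [IsReduced X]

attribute [local instance] Curv2.stalkAlgebra

/-- an indecomposable torsion-free rank one sheaf is simple. -/
theorem isSimple_of_not_decomposable
    (hpure : ∀ C ∈ irreducibleComponents (X : Type u), topologicalKrullDim C = 1)
    (hgi : ∀ (C : Set X) (hC : C ∈ irreducibleComponents (X : Type u)),
      GeometricallyIntegral (VecSt.subschι X C (isClosed_of_mem_irreducibleComponents C hC) ≫
        (X ↘ Spec (CommRingCat.of k))))
    [Nonempty X] (I : X.Modules) (hI : TFOne.IsTF1 X I)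
    (hidem : ∀ e : I ⟶ I, e ≫ e = e → e = 0 ∨ e = 𝟙 I) :
    TFOne.IsSimple X k (X ↘ Spec (CommRingCat.of k)) I := by
  classical
  haveI := isLocallyNoetherian_of_proper (X := X) k
  have hfin := finite_genericPoints (X := X) k
  -- a generic point
  obtain ⟨η₀, hη₀⟩ : (genericPoints X).Nonempty := by
    by_contra hne
    rw [Set.not_nonempty_iff_eq_empty] at hne
    have := genericPoints.closure (α := X)
    rw [hne, closure_empty] at this
    exact (Set.empty_ne_univ this).elim
  have eqv : ∀ η : X, η ∈ genericPoints X →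
      (I.presheaf.stalk η ≃ₗ[X.presheaf.stalk η] X.presheaf.stalk η) :=
    fun η hη => (hI.2.2 η hη).some
  have hFld : ∀ η ∈ genericPoints X, IsField (X.presheaf.stalk η) :=
    fun η hη => isField_stalk_of_mem_genericPoints hη
  have hnt : ∀ η ∈ genericPoints X, Nontrivial (X.presheaf.stalk η) := fun η hη => inferInstance
  refine ⟨?_, ?_⟩
  · rw [isZero_iff_subsingleton_stalks]
    intro hall
    haveI := hall η₀
    have : (1 : X.presheaf.stalk η₀) = 0 := by
      have h1 : (eqv η₀ hη₀).symm 1 = (eqv η₀ hη₀).symm 0 := Subsingleton.elim _ _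
      exact (eqv η₀ hη₀).symm.injective h1
    exact one_ne_zero this
  · intro (φ : End I)
    obtain ⟨p, hp0, hp⟩ := exists_poly_aeval_eq_zero k hpure I hI φ
    -- the generic scalars lie in `k`
    have key : ∀ η : X, ∃ c : k, ∀ hη : η ∈ genericPoints X,
        genScalar k (eqv η hη) φ = algebraMap k (X.presheaf.stalk η) c := by
      intro η
      by_cases hη : η ∈ genericPoints X
      · have halg : IsAlgebraic k (genScalar k (eqv η hη) φ) := by
          refine ⟨p, hp0, ?_⟩
          rw [Polynomial.aeval_algHom_apply, hp, map_zero]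
        have hC : closure ({η} : Set X) ∈ irreducibleComponents (X : Type u) := hη
        haveI := hgi _ hC
        obtain ⟨c, hc⟩ := GeoInt.exists_eq_stalkMap_of_isAlgebraic k (closure ({η} : Set X))
          (isClosed_of_mem_irreducibleComponents _ hC) η (subset_closure rfl) (hFld η hη) _ halg
        exact ⟨c, fun _ => hc⟩
      · exact ⟨0, fun h => (hη h).elim⟩
    choose c hc using key
    have hinjk : ∀ η ∈ genericPoints X,
        Function.Injective (algebraMap k (X.presheaf.stalk η)) := by
      intro η hη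
      haveI := hnt η hη
      exact (algebraMap k (X.presheaf.stalk η)).injective
    have hpoly : ∀ (η : X) (hη : η ∈ genericPoints X) (P : Polynomial k),
        genScalar k (eqv η hη) (Polynomial.aeval φ P) =
          algebraMap k (X.presheaf.stalk η) (P.eval (c η)) := by
      intro η hη P
      rw [← Polynomial.aeval_algHom_apply, hc η hη,
        Polynomial.aeval_algebraMap_apply_eq_algebraMap_eval]
    have hzero : ∀ ψ : End I, (∀ (η : X) (hη : η ∈ genericPoints X),
        genScalar k (eqv η hη) ψ = 0) → ψ = 0 := by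
      intro ψ hψ
      apply eq_zero_of_generic hI.1.1 hI.1 hI.2.1
      intro η hη v
      rw [sf_eq_genScalar_smul k (eqv η hη) ψ v, hψ η hη, zero_smul]
    -- the Lagrange idempotent
    set S : Finset k := hfin.toFinset.image c with hS
    have hcS : ∀ η ∈ genericPoints X, c η ∈ S := fun η hη =>
      Finset.mem_image_of_mem c (hfin.mem_toFinset.mpr hη)
    set L : Polynomial k := Lagrange.basis S id (c η₀) with hL
    have hL1 : L.eval (c η₀) = 1 :=
      Lagrange.eval_basis_self (v := id) (Set.injOn_id _) (hcS η₀ hη₀)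
    have hL0 : ∀ η ∈ genericPoints X, c η ≠ c η₀ → L.eval (c η) = 0 := fun η hη hne =>
      Lagrange.eval_basis_of_ne (v := id) (Ne.symm hne) (hcS η hη)
    have hLsq : ∀ η ∈ genericPoints X, L.eval (c η) * L.eval (c η) = L.eval (c η) := by
      intro η hη
      by_cases h : c η = c η₀
      · rw [h, hL1, mul_one]
      · rw [hL0 η hη h, mul_zero]
    set E : End I := Polynomial.aeval φ L with hE
    have hEE : E * E = E := by
      have : E * E - E = 0 := by
        apply hzero
        intro η hη
        rw [map_sub, map_mul, hE, hpoly η hη L, ← map_mul, hLsq η hη, sub_self]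
      exact sub_eq_zero.mp this
    have hE0 : E ≠ 0 := by
      intro h0
      have h1 := hpoly η₀ hη₀ L
      rw [← hE, h0, map_zero, hL1, map_one] at h1
      haveI := hnt η₀ hη₀
      exact zero_ne_one h1
    have hE1 : E = 1 := by
      rcases hidem (E : I ⟶ I) hEE with h | h
      · exact (hE0 h).elim
      · exact h
    have hall : ∀ η ∈ genericPoints X, c η = c η₀ := by
      intro η hη
      by_contra hne
      have h1 := hpoly η hη L
      rw [← hE, hE1, map_one, hL0 η hη hne, map_zero] at h1
      haveI := hnt η hη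
      exact one_ne_zero h1
    refine ⟨c η₀, ?_⟩
    have hfinal : φ - algebraMap k (End I) (c η₀) = 0 := by
      apply hzero
      intro η hη
      rw [map_sub, hc η hη, AlgHom.commutes, hall η hη, sub_self]
    have h2 : φ = algebraMap k (End I) (c η₀) := sub_eq_zero.mp hfinal
    rw [Algebra.algebraMap_eq_smul_one] at h2
    exact h2.trans (KLin.smul_id I (c η₀))

end Groth.Agent.H5.TFQ

namespace Groth.Agent.H5.TFQ

open Groth.Agent.LD Groth.Agent.LD.QC Groth.Agent.H5.Dec Groth.Agent.H5.Snap

attribute [-instance] Groth.Agent.LD.QC.stalkModule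

variable {X : Scheme.{u}} (k : Type u) [Field k] [X.Over (Spec (CommRingCat.of k))]

theorem nonempty_of_isSubcurve {Y : Set X} (h : VecSt.IsSubcurve X Y) : Y.Nonempty := by
  obtain ⟨𝒮, hsub, ⟨C, hC⟩, rfl⟩ := h
  obtain ⟨x, hx⟩ := (hsub hC).1.nonempty
  exact ⟨x, C, hC, hx⟩

theorem not_isZero_of_support_nonempty {G : X.Modules} (h : (CohB1.support G).Nonempty) :
    ¬ IsZero G := by
  intro hz
  obtain ⟨x, hx⟩ := h
  exact hx ((isZero_iff_subsingleton_stalks G).mp hz x)

/-- a simple sheaf is not decomposable. -/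
theorem not_decomposable_of_isSimple (I : X.Modules)
    (hs : TFOne.IsSimple X k (X ↘ Spec (CommRingCat.of k)) I) :
    ¬ ∃ (Y Z : Set X) (_ : IsClosed Y) (_ : IsClosed Z) (GY GZ : X.Modules) (πY : I ⟶ GY)
      (πZ : I ⟶ GZ), VecSt.IsSubcurve X Y ∧ VecSt.IsSubcurve X Z ∧ Y ≠ Set.univ ∧
        Z ≠ Set.univ ∧ TFOne.IsQuotOn X I Y GY πY ∧ TFOne.IsQuotOn X I Z GZ πZ ∧
        IsIso (biprod.lift πY πZ) := by
  rintro ⟨Y, Z, -, -, GY, GZ, πY, πZ, hYs, hZs, -, -, hGY, hGZ, hiso⟩
  haveI := hiso
  have hGY0 : ¬ IsZero GY := not_isZero_of_support_nonempty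
    (by rw [hGY.2.2.2]; exact nonempty_of_isSubcurve hYs)
  have hGZ0 : ¬ IsZero GZ := not_isZero_of_support_nonempty
    (by rw [hGZ.2.2.2]; exact nonempty_of_isSubcurve hZs)
  obtain ⟨c, hc⟩ := hs.2 (biprod.lift πY πZ ≫ (biprod.fst ≫ biprod.inl) ≫ inv (biprod.lift πY πZ))
  have hc' : biprod.lift πY πZ ≫ (biprod.fst ≫ biprod.inl) ≫ inv (biprod.lift πY πZ) = c • 𝟙 I :=
    hc.trans (KLin.smul_id I c).symm
  have h1 : (biprod.fst ≫ biprod.inl : GY ⊞ GZ ⟶ GY ⊞ GZ) = c • 𝟙 (GY ⊞ GZ) := by
    have h2 := congrArg (fun z => inv (biprod.lift πY πZ) ≫ z ≫ biprod.lift πY πZ) hc'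
    simp only [Category.assoc, IsIso.inv_hom_id, Category.comp_id, IsIso.inv_hom_id_assoc,
      Linear.smul_comp, Linear.comp_smul, Category.id_comp] at h2
    exact h2
  have hY1 : 𝟙 GY = c • 𝟙 GY := by
    have h2 := congrArg (fun z => (biprod.inl : GY ⟶ GY ⊞ GZ) ≫ z ≫ biprod.fst) h1
    simp only [Category.assoc, biprod.inl_fst, Category.comp_id, Linear.smul_comp,
      Linear.comp_smul, Category.id_comp] at h2
    exact h2
  have hZ0 : (0 : GZ ⟶ GZ) = c • 𝟙 GZ := by
    have h2 := congrArg (fun z => (biprod.inr : GZ ⟶ GY ⊞ GZ) ≫ z ≫ biprod.snd) h1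
    simp only [Category.assoc, biprod.inl_snd, comp_zero, Linear.smul_comp,
      Linear.comp_smul, Category.id_comp, biprod.inr_snd] at h2
    exact h2
  have hc0 : c = 0 := by
    by_contra hne
    apply hGZ0
    rw [IsZero.iff_id_eq_zero]
    have : 𝟙 GZ = c⁻¹ • (c • 𝟙 GZ) := by rw [smul_smul, inv_mul_cancel₀ hne, one_smul]
    rw [this, ← hZ0, smul_zero]
  apply hGY0
  rw [IsZero.iff_id_eq_zero, hY1, hc0, zero_smul]

end Groth.Agent.H5.TFQ
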