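import Mathlib

universe u

namespace Groth.Agent.H5TFQ

theorem isField_atPrime_of_minimal {R : Type u} [CommRing R] [IsReduced R] (p : Ideal R) [p.IsPrime]
    (hp : p ∈ minimalPrimes R) : IsField (Localization.AtPrime p) := by
  haveI : Ring.KrullDimLE 0 (Localization.AtPrime p) :=
    Ring.KrullDimLE.of_isLocalization p hp (Localization.AtPrime p)
  haveI : IsReduced (Localization.AtPrime p) := inferInstance
  exact Ring.KrullDimLE.isField_of_isReduced

theorem main (R : Type u) [CommRing R] [IsNoetherianRing R] [IsReduced R] (M : Type u)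
    [AddCommGroup M] [Module R M] [Module.Finite R M]
    (hrk : ∀ p : PrimeSpectrum R, p.asIdeal ∈ minimalPrimes R →
      Module.finrank (Localization.AtPrime p.asIdeal) (LocalizedModule p.asIdeal.primeCompl M) = 1)
    (Q : Type u) [AddCommGroup Q] [Module R Q] [Module.Finite R Q]
    (hQ : associatedPrimes R Q ⊆ minimalPrimes R) (g : M →ₗ[R] Q) (hg : Function.Surjective g) :
    LinearMap.ker g = ⨅ p ∈ {p : PrimeSpectrum R | p.asIdeal ∈ minimalPrimes R ∧
      p ∈ Module.support R Q}, LinearMap.ker (LocalizedModule.mkLinearMap p.asIdeal.primeCompl M) := by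
  apply le_antisymm
  · intro m hm
    simp only [Submodule.mem_iInf]
    rintro p ⟨hpmin, hpsupp⟩
    rw [LinearMap.mem_ker] at hm ⊢
    have hfield := isField_atPrime_of_minimal p.asIdeal hpmin
    letI := hfield.toField
    have h1 := hrk p hpmin
    obtain ⟨e, he0, he⟩ := finrank_eq_one_iff'.1 h1
    set gp := (LocalizedModule.map p.asIdeal.primeCompl g) with hgp
    have hsurj : Function.Surjective gp := by
      intro y
      induction y using LocalizedModule.induction_on with
      | h q s =>
        obtain ⟨m', rfl⟩ := hg q
        exact ⟨LocalizedModule.mk m' s, by simp [hgp, LocalizedModule.map_mk]⟩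
    rw [Module.mem_support_iff] at hpsupp
    obtain ⟨c, hc⟩ := he (LocalizedModule.mkLinearMap p.asIdeal.primeCompl M m)
    by_cases hc0 : c = 0
    · rw [← hc, hc0, zero_smul]
    · exfalso
      have hgm : gp (LocalizedModule.mkLinearMap p.asIdeal.primeCompl M m) = 0 := by
        simp [hgp, LocalizedModule.mkLinearMap_apply, LocalizedModule.map_mk, hm]
      have hge : gp e = 0 := by
        have : gp (c • e) = 0 := by rw [hc]; exact hgm
        rw [LinearMap.map_smul_of_tower] at this
        exact (smul_eq_zero.1 this).resolve_left hc0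
      have : ∀ y : LocalizedModule p.asIdeal.primeCompl Q, y = 0 := by
        intro y
        obtain ⟨x, rfl⟩ := hsurj y
        obtain ⟨d, rfl⟩ := he x
        rw [LinearMap.map_smul_of_tower, hge, smul_zero]
      obtain ⟨a, b, hab⟩ := hpsupp
      exact hab ((this a).trans (this b).symm)
  · intro m hm
    simp only [Submodule.mem_iInf] at hm
    rw [LinearMap.mem_ker]
    by_contra hne
    obtain ⟨P, hP, hle⟩ := exists_le_isAssociatedPrime_of_isNoetherianRing R (g m) hne
    have hPmin : P ∈ minimalPrimes R := hQ hP
    haveI := hP.isPrime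
    have hsupp : (⟨P, hP.isPrime⟩ : PrimeSpectrum R) ∈ Module.support R Q := by
      obtain ⟨-, y, hy⟩ := (isAssociatedPrime_iff).1 hP
      rw [Module.mem_support_iff_exists_annihilator]
      refine ⟨y, ?_⟩
      intro r hr
      show r ∈ P
      rw [Submodule.mem_annihilator_span_singleton] at hr
      rw [hy, Submodule.mem_colon_singleton]
      simpa using hr
    have h0 := hm ⟨P, hP.isPrime⟩ ⟨hPmin, hsupp⟩
    rw [LinearMap.mem_ker, IsLocalizedModule.eq_zero_iff P.primeCompl] at h0
    obtain ⟨s, hs⟩ := h0
    have : (s : R) ∈ P := by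
      apply hle
      rw [Submodule.mem_colon_singleton]
      have : g ((s : R) • m) = 0 := by
        have h' : (s : R) • m = 0 := hs
        rw [h', map_zero]
      simpa using this
    exact s.2 this

end Groth.Agent.H5TFQ
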